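import Cfsg.Agent.ThreeTransposition.OrderFive.SymSet
import Cfsg.Agent.ThreeTransposition.ElevenNorm.Basic
import Cfsg.Agent.Classical.Misc.SymIndex

/-!
Normalisers of subgroups of order five whose commuting members form the transpositions of a symmetric group.
-/

set_option autoImplicit false
set_option linter.unusedSectionVars false

namespace Cfsg.Lib.OrderFive

open Cfsg Equiv Subgroup Cfsg.Lib.ThreeTr Cfsg.Lib.ElevenNorm

variable {G : Type*} [Group G]

/-- An automorphism permuting the transpositions is inner. -/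
theorem exists_inner {Ω : Type*} [Fintype Ω] [DecidableEq Ω] (h5 : 5 ≤ Fintype.card Ω) (φ : Perm Ω ≃* Perm Ω)
    (hsw : ∀ s : Perm Ω, s.IsSwap → (φ.symm s).IsSwap) : ∃ π : Perm Ω, ∀ g, φ g = π * g * π⁻¹ := by
  choose c hc using fun p => Cfsg.Lib.Classical.SymIndex.exists_point φ h5 hsw p
  have hstab : ∀ p, (MulAction.stabilizer (Perm Ω) p).comap φ.toMonoidHom = MulAction.stabilizer (Perm Ω) (c p) :=
    fun p => Cfsg.Lib.Classical.SymIndex.stabilizer_of_fix
      (by rw [index_comap_of_surjective _ φ.surjective, MulAction.index_stabilizer_of_transitive,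
        Nat.card_eq_fintype_card]) fun g hg => hc p g hg
  have hiff : ∀ p g, φ g p = p ↔ g (c p) = c p := fun p g => SetLike.ext_iff.1 (hstab p) g
  have heq : ∀ (g : Perm Ω) (p : Ω), c (φ g p) = g (c p) := by
    intro g p
    by_contra hne
    obtain ⟨r, hr1, hr2⟩ := Finset.exists_mem_notMem_of_card_lt_card
      (s := ({g (c p), c (φ g p)} : Finset Ω)) (t := Finset.univ) (by
        have := Finset.card_le_two (a := g (c p)) (b := c (φ g p))
        rw [Finset.card_univ]; omega)
    simp only [Finset.mem_insert, Finset.mem_singleton, not_or] at hr2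
    have h1 : φ (g⁻¹ * Equiv.swap (g (c p)) r * g) p ≠ p := by
      rw [Ne, hiff]
      simp only [Perm.mul_apply, swap_apply_left]
      intro h
      exact hr2.1 (by simpa using congrArg g h)
    have h2 : φ (Equiv.swap (g (c p)) r) (φ g p) = φ g p := by
      rw [hiff]
      exact swap_apply_of_ne_of_ne hne (Ne.symm hr2.2)
    apply h1
    rw [map_mul, map_mul, map_inv, Perm.mul_apply, Perm.mul_apply, h2]
    simp
  have hinj : Function.Injective c := by
    intro p q h
    by_contra hne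
    obtain ⟨r, hr1, hr2⟩ := Finset.exists_mem_notMem_of_card_lt_card
      (s := ({p, q} : Finset Ω)) (t := Finset.univ) (by
        have := Finset.card_le_two (a := p) (b := q)
        rw [Finset.card_univ]; omega)
    simp only [Finset.mem_insert, Finset.mem_singleton, not_or] at hr2
    have h1 : φ (φ.symm (Equiv.swap q r)) p = p := by
      rw [φ.apply_symm_apply]
      exact swap_apply_of_ne_of_ne hne (Ne.symm hr2.1)
    rw [hiff, h, ← hiff, φ.apply_symm_apply, swap_apply_left] at h1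
    exact hr2.2 h1
  let C : Perm Ω := Equiv.ofBijective c (Finite.injective_iff_bijective.1 hinj)
  refine ⟨C⁻¹, fun g => Equiv.ext fun p => C.injective ?_⟩
  rw [inv_inv, Perm.mul_apply, Perm.mul_apply]
  exact (heq g p).trans (Equiv.apply_symm_apply C _).symm

theorem exists_gen_prime [Finite G] {q : ℕ} (hq : q.Prime) {X : Subgroup G} (hX : Nat.card X = q) :
    ∃ x, orderOf x = q ∧ X = zpowers x := by
  haveI : Fact q.Prime := ⟨hq⟩
  haveI : Nontrivial X := Finite.one_lt_card_iff_nontrivial.1 (hX ▸ hq.one_lt)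
  obtain ⟨⟨x, hx⟩, hne⟩ := exists_ne (1 : X)
  have ho : orderOf x = q := by
    have h := Subgroup.orderOf_dvd_natCard X hx
    rw [hX] at h
    exact ((Nat.dvd_prime hq).1 h).resolve_left fun h1 => hne (Subtype.ext (orderOf_eq_one_iff.1 h1))
  exact ⟨x, ho, (eq_of_le_of_card_ge ((zpowers_le).2 hx) (by rw [Nat.card_zpowers, ho, hX])).symm⟩

/-- The members commuting with `x`. -/
def fixedSet (D : Set G) (x : G) : Set G := {y | y ∈ D ∧ Commute x y}

theorem inter_centralizer_zpowers (D : Set G) (x : G) :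
    D ∩ (centralizer ((zpowers x : Subgroup G) : Set G) : Set G) = fixedSet D x := by
  ext y
  simp only [Set.mem_inter_iff, SetLike.mem_coe, fixedSet, Set.mem_setOf_eq, centralizer_zpowers,
    mem_centralizer_singleton_iff]
  exact and_congr_right fun _ => ⟨fun h => h.symm, fun h => h.eq.symm⟩

theorem closure_image_swp {m : ℕ} (φ : Perm (Fin m) →* G) : closure (φ '' Swp m) = φ.range := by
  rw [← MonoidHom.map_closure, MonoidHom.range_eq_map]
  exact congrArg (Subgroup.map φ) Perm.closure_isSwap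

theorem SymSet.iso {F : Set G} {m : ℕ} (h : SymSet F m) : Nonempty (↥(closure F) ≃* Perm (Fin m)) := by
  obtain ⟨φ, hφ, rfl⟩ := h
  rw [closure_image_swp]
  exact ⟨(MonoidHom.ofInjective hφ).symm⟩

theorem card_mul_orbit [Finite G] (K : Subgroup G) (d : G) (F : Set G) (hd : d ∈ F)
    (hinv : ∀ g ∈ K, ∀ y ∈ F, g * y * g⁻¹ ∈ F) (htrans : ∀ y ∈ F, ∃ g ∈ K, g * d * g⁻¹ = y) :
    Nat.card K = F.ncard * Nat.card ↥(K ⊓ centralizer ({d} : Set G)) := by
  letI : MulAction K G := MulAction.compHom G ((MulAut.conj : G →* MulAut G).comp K.subtype)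
  have hsmul : ∀ (k : K) (y : G), k • y = (k : G) * y * (k : G)⁻¹ := fun _ _ => rfl
  have horb : MulAction.orbit K d = F := by
    ext y
    constructor
    · rintro ⟨k, rfl⟩
      show k • d ∈ F
      rw [hsmul]
      exact hinv k k.2 d hd
    · intro hy
      obtain ⟨g, hg, hgd⟩ := htrans y hy
      exact ⟨⟨g, hg⟩, hgd⟩
  have h1 := MulAction.index_stabilizer K d
  rw [horb] at h1
  have h2 : MulAction.stabilizer K d = (K ⊓ centralizer ({d} : Set G)).subgroupOf K := by
    ext k
    rw [MulAction.mem_stabilizer_iff, hsmul, mem_subgroupOf, mem_inf, mem_centralizer_singleton_iff,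
      mul_inv_eq_iff_eq_mul]
    exact ⟨fun h => ⟨k.2, h⟩, fun h => h.2⟩
  rw [← Subgroup.card_mul_index (MulAction.stabilizer K d), h1, h2,
    Nat.card_congr (subgroupOfEquivOfLe inf_le_left).toEquiv, mul_comm]

/-- The centraliser and the normaliser, and the splitting of the latter. -/
theorem normalizer_split [Finite G] {D : Set G} (hconj : ∀ g : G, ∀ y ∈ D, g * y * g⁻¹ ∈ D) {x d : G} {m : ℕ}
    (hm : 5 ≤ m) (hx : orderOf x = 5) (hF : SymSet (fixedSet D x) m) (hd : d ∈ fixedSet D x)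
    (hC : Nat.card ↥(centralizer ({d} : Set G) ⊓ centralizer ({x} : Set G)) * m.choose 2 = 5 * m.factorial)
    (hN : Nat.card ↥(centralizer ({d} : Set G) ⊓ normalizer ((zpowers x : Subgroup G) : Set G)) * m.choose 2 =
      20 * m.factorial) :
    ∃ F : Subgroup G, Nat.card ↥F = 20 ∧ zpowers x ≤ F ∧
      F ⊓ centralizer ((zpowers x : Subgroup G) : Set G) = zpowers x ∧
      F ⊓ closure (fixedSet D x) = ⊥ ∧
      (∀ a ∈ F, ∀ b ∈ closure (fixedSet D x), a * b = b * a) ∧
      F ⊔ closure (fixedSet D x) = normalizer ((zpowers x : Subgroup G) : Set G) ∧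
      zpowers x ⊔ closure (fixedSet D x) = centralizer ({x} : Set G) ∧
      zpowers x ⊓ closure (fixedSet D x) = ⊥ := by
  have hcard := hF.ncard
  obtain ⟨φ, hφ, hφF⟩ := hF
  set N := normalizer ((zpowers x : Subgroup G) : Set G) with hNdef
  set C := centralizer ({x} : Set G) with hCdef
  set S := closure (fixedSet D x) with hSdef
  have hS : S = φ.range := by rw [hSdef, hφF, closure_image_swp]
  have hSC : S ≤ C := (closure_le _).2 fun y hy => mem_centralizer_singleton_iff.2 hy.2.eq.symm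
  have hCN : C ≤ N := centralizer_le_normalizer_zpowers x
  have hmemφ : ∀ {σ}, σ ∈ Swp m → φ σ ∈ fixedSet D x := fun h => hφF ▸ ⟨_, h, rfl⟩
  have hSsymm : ∀ y ∈ fixedSet D x, ∃ g ∈ S, g * d * g⁻¹ = y := by
    intro y hy
    rw [hφF] at hy hd
    obtain ⟨σ, hσ, rfl⟩ := hy
    obtain ⟨τ, ⟨a, b, hab, rfl⟩, rfl⟩ := hd
    obtain ⟨p, q, hpq, rfl⟩ := hσ
    obtain ⟨g, hg⟩ := isConj_iff.1 (Perm.isConj_swap hab hpq)
    exact ⟨φ g, hS ▸ ⟨g, rfl⟩, by rw [← map_inv, ← map_mul, ← map_mul, hg]⟩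
  have hNinv : ∀ g ∈ N, ∀ y ∈ fixedSet D x, g * y * g⁻¹ ∈ fixedSet D x := fun g hg y hy =>
    ⟨hconj g y hy.1, commute_conj_of_mem_normalizer hg hy.2⟩
  have hNcard : Nat.card N = 20 * m.factorial := by
    rw [card_mul_orbit N d _ hd hNinv fun y hy => by
      obtain ⟨g, hg, he⟩ := hSsymm y hy; exact ⟨g, hCN (hSC hg), he⟩, hcard, inf_comm, mul_comm]
    exact hN
  have hCcard : Nat.card C = 5 * m.factorial := by
    rw [card_mul_orbit C d _ hd (fun g hg => hNinv g (hCN hg)) fun y hy => by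
      obtain ⟨g, hg, he⟩ := hSsymm y hy; exact ⟨g, hSC hg, he⟩, hcard, inf_comm, mul_comm]
    exact hC
  set F := N ⊓ centralizer (S : Set G) with hFdef
  have hFc : ∀ a ∈ F, ∀ b ∈ S, a * b = b * a := fun a ha b hb => (mem_centralizer_iff.1 ha.2 b hb).symm
  have hFS : F ⊓ S = ⊥ := by
    rw [eq_bot_iff]
    intro g hg
    obtain ⟨σ, rfl⟩ : g ∈ φ.range := hS ▸ hg.2
    have hz : σ ∈ center (Perm (Fin m)) := mem_center_iff.2 fun τ => hφ (by
      rw [map_mul, map_mul]
      exact (hFc _ hg.1 _ (hS ▸ ⟨τ, rfl⟩)).symm)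
    rw [Cfsg.Lib.Classical.SymIndex.center_perm_eq_bot (by rw [Fintype.card_fin]; omega), mem_bot] at hz
    rw [hz, map_one]
    exact one_mem _
  have hsplit : ∀ n ∈ N, ∃ σ : Perm (Fin m), (φ σ)⁻¹ * n ∈ F := by
    intro n hn
    have hSmap : ∀ n ∈ N, ∀ g ∈ S, n * g * n⁻¹ ∈ S := by
      intro n hn g hg
      have hle : S ≤ S.comap (MulAut.conj n).toMonoidHom :=
        (closure_le _).2 fun y hy => subset_closure (hNinv n hn y hy)
      exact hle hg
    let e : Perm (Fin m) ≃* ↥φ.range := MonoidHom.ofInjective hφ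
    have hmem : ∀ n ∈ N, ∀ σ, n * φ σ * n⁻¹ ∈ φ.range := fun n hn σ => hS ▸ hSmap n hn _ (hS ▸ ⟨σ, rfl⟩)
    choose α hα using fun σ => hmem n hn σ
    choose β hβ using fun σ => hmem n⁻¹ (inv_mem hn) σ
    let Φ : Perm (Fin m) ≃* Perm (Fin m) :=
      { toFun := α
        invFun := β
        left_inv := fun σ => hφ (by rw [hβ, hα]; group)
        right_inv := fun σ => hφ (by rw [hα, hβ]; group)
        map_mul' := fun σ τ => hφ (by rw [map_mul, hα, hα, hα, map_mul]; group) }
    obtain ⟨π, hπ⟩ := exists_inner (by rw [Fintype.card_fin]; exact hm) Φ fun s hs => by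
      have h := hNinv n⁻¹ (inv_mem hn) _ (hmemφ hs)
      rw [← hβ, hφF] at h
      obtain ⟨τ, hτ, hτe⟩ := h
      show (β s).IsSwap
      rw [← hφ hτe]
      exact hτ
    have hπS : φ π ∈ S := hS ▸ ⟨π, rfl⟩
    refine ⟨π, mem_inf.2 ⟨mul_mem (inv_mem (hCN (hSC hπS))) hn, mem_centralizer_iff.2 fun g hg => ?_⟩⟩
    obtain ⟨σ, rfl⟩ : g ∈ φ.range := hS ▸ hg
    have h1 : n * φ σ * n⁻¹ = φ π * φ σ * (φ π)⁻¹ := by
      rw [← hα, ← map_inv, ← map_mul, ← map_mul, ← hπ σ]
      rfl
    calc φ σ * ((φ π)⁻¹ * n) = (φ π)⁻¹ * (φ π * φ σ * (φ π)⁻¹) * n := by group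
      _ = _ := by rw [← h1]; group
  have hsup : F ⊔ S = N := by
    refine le_antisymm (sup_le inf_le_left (hSC.trans hCN)) fun n hn => ?_
    obtain ⟨σ, hσ⟩ := hsplit n hn
    rw [show n = φ σ * ((φ σ)⁻¹ * n) by group]
    exact mul_mem (mem_sup_right (hS ▸ ⟨σ, rfl⟩)) (mem_sup_left hσ)
  have hScard : Nat.card S = m.factorial := by
    rw [hS, ← Nat.card_congr (MonoidHom.ofInjective hφ).toEquiv, Nat.card_perm, Nat.card_fin]
  -- products
  have hprod : ∀ A : Subgroup G, A ≤ F → Nat.card ↥(A ⊔ S) = Nat.card A * Nat.card S := by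
    intro A hA
    have hcm : ∀ (a : A) (b : S), Commute (A.subtype a) (S.subtype b) := fun a b => hFc _ (hA a.2) _ b.2
    have hinj : Function.Injective (A.subtype.noncommCoprod S.subtype hcm) := by
      rw [MonoidHom.noncommCoprod_injective]
      refine ⟨A.subtype_injective, S.subtype_injective, ?_⟩
      rw [range_subtype, range_subtype]
      exact disjoint_iff.2 (le_bot_iff.1 (hFS ▸ inf_le_inf_right S hA))
    have h := Nat.card_congr (MonoidHom.ofInjective hinj).toEquiv
    rw [MonoidHom.noncommCoprod_range, range_subtype, range_subtype, Nat.card_prod] at h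
    exact h.symm
  have hF20 : Nat.card F = 20 := by
    have := hprod F le_rfl
    rw [hsup, hNcard, hScard] at this
    exact (Nat.eq_of_mul_eq_mul_right (Nat.factorial_pos m) this).symm
  have hxF : zpowers x ≤ F := by
    rw [zpowers_le]
    exact ⟨hCN (mem_centralizer_singleton_iff.2 rfl),
      mem_centralizer_iff.2 fun g hg => mem_centralizer_singleton_iff.1 (hSC hg)⟩
  have hCsup : zpowers x ⊔ S = C := by
    refine eq_of_le_of_card_ge (sup_le (zpowers_le.2 (mem_centralizer_singleton_iff.2 rfl)) hSC) ?_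
    rw [hprod _ hxF, Nat.card_zpowers, hx, hScard, hCcard]
  have hxS : zpowers x ⊓ S = ⊥ := le_bot_iff.1 (hFS ▸ inf_le_inf_right S hxF)
  refine ⟨F, hF20, hxF, ?_, hFS, hFc, hsup, hCsup, hxS⟩
  rw [centralizer_zpowers, ← hCdef]
  refine le_antisymm ?_ (le_inf hxF (zpowers_le.2 (mem_centralizer_singleton_iff.2 rfl)))
  intro g hg
  obtain ⟨hgF, hgC⟩ := mem_inf.1 hg
  rw [← hCsup] at hgC
  rw [← SetLike.mem_coe, coe_mul_of_right_le_normalizer_left (zpowers x) S (hSC.trans hCN)] at hgC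
  obtain ⟨a, ha, b, hb, rfl⟩ := Set.mem_mul.1 hgC
  have hb' : b ∈ F := by
    have := mul_mem (inv_mem (hxF ha)) hgF
    rwa [inv_mul_cancel_left] at this
  have : b = 1 := mem_bot.1 (hFS ▸ (⟨hb', hb⟩ : b ∈ F ⊓ S))
  rw [this, mul_one]
  exact ha

end Cfsg.Lib.OrderFive
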