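import Cfsg.Agent.ThreeTransposition.OrderFive.FiveCycle
import Cfsg.Prelude.Def_Transfer

/-!
The Sylow 5-subgroups, when every element of order five commutes with the transpositions of a symmetric group.
-/

set_option autoImplicit false
set_option linter.unusedSectionVars false

namespace Cfsg.Lib.OrderFive

open Cfsg Equiv Subgroup Cfsg.Lib.ThreeTr Cfsg.Lib.ElevenNorm

variable {G : Type*} [Group G]

/-- Every element of order five commutes with exactly the transpositions of a symmetric group of degree `m`,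
and its normaliser splits over them. -/
def FiveSplit (D : Set G) (m : ℕ) : Prop :=
  (∀ X Y : Subgroup G, Nat.card X = 5 → Nat.card Y = 5 → ∃ g : G, X.map (MulAut.conj g).toMonoidHom = Y) ∧
  ∀ x : G, orderOf x = 5 → SymSet (fixedSet D x) m ∧ ∃ F : Subgroup G, Nat.card ↥F = 20 ∧ zpowers x ≤ F ∧
    F ⊓ centralizer ((zpowers x : Subgroup G) : Set G) = zpowers x ∧
    F ⊓ closure (fixedSet D x) = ⊥ ∧
    (∀ a ∈ F, ∀ b ∈ closure (fixedSet D x), a * b = b * a) ∧
    F ⊔ closure (fixedSet D x) = normalizer ((zpowers x : Subgroup G) : Set G) ∧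
    zpowers x ⊔ closure (fixedSet D x) = centralizer ({x} : Set G) ∧
    zpowers x ⊓ closure (fixedSet D x) = ⊥

theorem card_sup_of_commute [Finite G] (A B : Subgroup G) (hcm : ∀ a ∈ A, ∀ b ∈ B, Commute a b)
    (hdis : A ⊓ B = ⊥) : Nat.card ↥(A ⊔ B) = Nat.card A * Nat.card B := by
  have hcm' : ∀ (a : A) (b : B), Commute (A.subtype a) (B.subtype b) := fun a b => hcm _ a.2 _ b.2
  have hinj : Function.Injective (A.subtype.noncommCoprod B.subtype hcm') := by
    rw [MonoidHom.noncommCoprod_injective]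
    refine ⟨A.subtype_injective, B.subtype_injective, ?_⟩
    rw [range_subtype, range_subtype]
    exact disjoint_iff.2 hdis
  have h := Nat.card_congr (MonoidHom.ofInjective hinj).toEquiv
  rw [MonoidHom.noncommCoprod_range, range_subtype, range_subtype, Nat.card_prod] at h
  exact h.symm

theorem exists_mul_of_mem_sup {A B : Subgroup G} (hcm : ∀ a ∈ A, ∀ b ∈ B, Commute a b) {g : G}
    (hg : g ∈ A ⊔ B) : ∃ a ∈ A, ∃ b ∈ B, g = a * b := by
  have hle : B ≤ normalizer (A : Set G) := fun b hb => by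
    rw [mem_normalizer_iff]
    intro a
    constructor
    · intro ha
      rwa [← (hcm a ha b hb).eq, mul_inv_cancel_right]
    · intro ha
      have h := (hcm _ ha b hb).eq
      rw [inv_mul_cancel_right] at h
      rwa [show a = b * a * b⁻¹ from mul_left_cancel h]
  rw [← SetLike.mem_coe, coe_mul_of_right_le_normalizer_left A B hle] at hg
  obtain ⟨a, ha, b, hb, rfl⟩ := Set.mem_mul.1 hg
  exact ⟨a, ha, b, hb, rfl⟩

/-- A subgroup permuting the transpositions of a symmetric group splits. -/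
theorem split_range [Finite G] {k : ℕ} (hk : 3 ≤ k)
    (hinner : ∀ φ : Perm (Fin k) ≃* Perm (Fin k), (∀ s, s.IsSwap → (φ s).IsSwap) →
      ∃ π : Perm (Fin k), ∀ g, φ g = π * g * π⁻¹)
    {ψ : Perm (Fin k) →* G} (hψ : Function.Injective ψ) (K : Subgroup G) (hK : ψ.range ≤ K)
    (hinv : ∀ g ∈ K, ∀ y ∈ ψ '' Swp k, g * y * g⁻¹ ∈ ψ '' Swp k) :
    ψ.range ⊓ (K ⊓ centralizer (ψ.range : Set G)) = ⊥ ∧ ψ.range ⊔ (K ⊓ centralizer (ψ.range : Set G)) = K ∧
      Nat.card K = k.factorial * Nat.card ↥(K ⊓ centralizer (ψ.range : Set G)) := by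
  set R := ψ.range with hR
  have hdis : R ⊓ (K ⊓ centralizer (R : Set G)) = ⊥ := by
    rw [eq_bot_iff]
    intro g hg
    obtain ⟨σ, rfl⟩ := (mem_inf.1 hg).1
    have hc := (mem_inf.1 (mem_inf.1 hg).2).2
    have hz : σ ∈ center (Perm (Fin k)) := mem_center_iff.2 fun τ => hψ (by
      rw [map_mul, map_mul]
      exact mem_centralizer_iff.1 hc _ ⟨τ, rfl⟩)
    rw [Cfsg.Lib.Classical.SymIndex.center_perm_eq_bot (by rw [Fintype.card_fin]; omega), mem_bot] at hz
    rw [hz, map_one]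
    exact one_mem _
  have hRn : ∀ n ∈ K, ∀ g ∈ R, n * g * n⁻¹ ∈ R := by
    intro n hn g hg
    have e : R = closure (ψ '' Swp k) := (closure_image_swp ψ).symm
    rw [e] at hg ⊢
    have hle : closure (ψ '' Swp k) ≤ (closure (ψ '' Swp k)).comap (MulAut.conj n).toMonoidHom :=
      (closure_le _).2 fun y hy => subset_closure (hinv n hn y hy)
    exact hle hg
  have hsup : R ⊔ (K ⊓ centralizer (R : Set G)) = K := by
    refine le_antisymm (sup_le hK inf_le_left) fun n hn => ?_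
    choose α hα using fun σ => hRn n hn (ψ σ) ⟨σ, rfl⟩
    choose β hβ using fun σ => hRn n⁻¹ (inv_mem hn) (ψ σ) ⟨σ, rfl⟩
    let Φ : Perm (Fin k) ≃* Perm (Fin k) :=
      { toFun := α
        invFun := β
        left_inv := fun σ => hψ (by rw [hβ, hα]; group)
        right_inv := fun σ => hψ (by rw [hα, hβ]; group)
        map_mul' := fun σ τ => hψ (by rw [map_mul, hα, hα, hα, map_mul]; group) }
    obtain ⟨π, hπ⟩ := hinner Φ fun s hs => by
      have h := hinv n hn _ ⟨s, hs, rfl⟩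
      rw [← hα] at h
      obtain ⟨τ, hτ, hτe⟩ := h
      show (α s).IsSwap
      rw [← hψ hτe]
      exact hτ
    have hπR : ψ π ∈ R := ⟨π, rfl⟩
    rw [show n = ψ π * ((ψ π)⁻¹ * n) by group]
    refine mul_mem (mem_sup_left hπR) (mem_sup_right (mem_inf.2
      ⟨mul_mem (inv_mem (hK hπR)) hn, mem_centralizer_iff.2 ?_⟩))
    rintro _ ⟨σ, rfl⟩
    have h1 : n * ψ σ * n⁻¹ = ψ π * ψ σ * (ψ π)⁻¹ := by
      rw [← hα, ← map_inv, ← map_mul, ← map_mul, ← hπ σ]
      rfl
    calc ψ σ * ((ψ π)⁻¹ * n) = (ψ π)⁻¹ * (ψ π * ψ σ * (ψ π)⁻¹) * n := by group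
      _ = _ := by rw [← h1]; group
  refine ⟨hdis, hsup, ?_⟩
  have h := card_sup_of_commute R (K ⊓ centralizer (R : Set G))
    (fun a ha b hb => mem_centralizer_iff.1 (mem_inf.1 hb).2 a ha) hdis
  rw [hsup, ← Nat.card_congr (MonoidHom.ofInjective hψ).toEquiv, Nat.card_perm, Nat.card_fin] at h
  exact h

variable [Finite G] {D : Set G} {m : ℕ}

theorem FiveSplit.exists_conj (h : FiveSplit D m) {x y : G} (hx : orderOf x = 5) (hy : orderOf y = 5) :
    ∃ g : G, g * x * g⁻¹ = y := by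
  obtain ⟨g₀, hg₀⟩ := h.1 (zpowers x) (zpowers y) (by rw [Nat.card_zpowers, hx]) (by rw [Nat.card_zpowers, hy])
  obtain ⟨-, F, hF20, hyF, hFC, -, -, hFN, -⟩ := h.2 y hy
  set O : Set G := {z | ∃ g ∈ F, g * y * g⁻¹ = z} with hO
  have hle : F ≤ normalizer ((zpowers y : Subgroup G) : Set G) := hFN ▸ le_sup_left
  have hc := card_mul_orbit F y O ⟨1, one_mem _, by simp⟩
    (fun g hg z hz => by
      obtain ⟨k, hk, rfl⟩ := hz
      exact ⟨g * k, mul_mem hg hk, by group⟩)
    (fun z hz => hz)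
  rw [← centralizer_zpowers, hFC, Nat.card_zpowers, hy, hF20] at hc
  have hsub : O ⊆ (zpowers y : Set G) \ {1} := by
    rintro z ⟨g, hg, rfl⟩
    refine ⟨mem_normalizer_zpowers.1 (hle hg), fun h1 => ?_⟩
    simp only [Set.mem_singleton_iff, mul_inv_eq_one] at h1
    rw [mul_eq_left] at h1
    rw [h1, orderOf_one] at hy
    norm_num at hy
  have heq : O = (zpowers y : Set G) \ {1} := by
    refine Set.eq_of_subset_of_ncard_le hsub ?_
    rw [Set.ncard_sdiff_singleton_of_mem (one_mem (zpowers y)), ← Nat.card_coe_set_eq, SetLike.coe_sort_coe,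
      Nat.card_zpowers, hy]
    omega
  have hmem : g₀ * x * g₀⁻¹ ∈ O := by
    rw [heq]
    refine ⟨hg₀ ▸ mem_map_of_mem _ (mem_zpowers x), fun h1 => ?_⟩
    simp only [Set.mem_singleton_iff, mul_inv_eq_one, mul_eq_left] at h1
    rw [h1, orderOf_one] at hx
    norm_num at hx
  obtain ⟨g, -, hg⟩ := hmem
  exact ⟨g⁻¹ * g₀, by rw [show g⁻¹ * g₀ * x * (g⁻¹ * g₀)⁻¹ = g⁻¹ * (g₀ * x * g₀⁻¹) * g by group, ← hg]; group⟩

/-- The Sylow 5-subgroup, its centraliser and its normaliser. -/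
theorem FiveSplit.sylow (h : FiveSplit D m) (hm : m < 10) (hconj : ∀ g : G, ∀ y ∈ D, g * y * g⁻¹ ∈ D)
    (E : Sylow 5 G) (hE : Nat.card (E : Subgroup G) = 25) :
    IsElementaryAbelian 5 (E : Subgroup G) ∧
    ∃ ψ : Perm (Fin (m - 5)) →* G, Function.Injective ψ ∧
      D ∩ (centralizer ((E : Subgroup G) : Set G) : Set G) = ψ '' Swp (m - 5) ∧
      (E : Subgroup G) ⊓ ψ.range = ⊥ ∧ (∀ a ∈ (E : Subgroup G), ∀ b ∈ ψ.range, a * b = b * a) ∧
      (E : Subgroup G) ⊔ ψ.range = centralizer ((E : Subgroup G) : Set G) ∧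
      (∀ g ∈ normalizer ((E : Subgroup G) : Set G), ∀ y ∈ ψ '' Swp (m - 5), g * y * g⁻¹ ∈ ψ '' Swp (m - 5)) ∧
      Nat.card ↥(normalizer ((E : Subgroup G) : Set G)) = 2400 * (m - 5).factorial := by
  classical
  haveI : Fact (Nat.Prime 5) := ⟨by norm_num⟩
  set P := (E : Subgroup G) with hP
  have hab : ∀ a ∈ P, ∀ b ∈ P, Commute a b := fun a ha b hb =>
    congrArg Subtype.val (IsPGroup.commutative_of_card_eq_prime_sq (p := 5) (G := P) (by rw [hE]; norm_num) ⟨a, ha⟩ ⟨b, hb⟩)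
  have hdvd : ∀ e ∈ P, orderOf e ∣ 25 := fun e he => hE ▸ P.orderOf_dvd_natCard he
  have hexp : ∀ e ∈ P, e ^ 5 = 1 := by
    intro e he
    by_contra hne
    have ho : orderOf (e ^ 5) = 5 := by
      refine orderOf_eq_prime ?_ hne
      rw [← pow_mul]
      exact orderOf_dvd_iff_pow_eq_one.1 (hdvd e he)
    obtain ⟨-, F, -, -, -, -, -, -, hC, hdis⟩ := h.2 _ ho
    have hcm : ∀ a ∈ zpowers (e ^ 5), ∀ b ∈ closure (fixedSet D (e ^ 5)), Commute a b := by
      intro a ha b hb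
      have hb' : b ∈ centralizer ({e ^ 5} : Set G) := hC ▸ mem_sup_right hb
      obtain ⟨j, rfl⟩ := mem_zpowers_iff.1 ha
      exact (show Commute (e ^ 5) b from (mem_centralizer_singleton_iff.1 hb').symm).zpow_left j
    obtain ⟨a, ha, b, hb, hab'⟩ := exists_mul_of_mem_sup hcm (g := e)
      (hC ▸ mem_centralizer_singleton_iff.2 ((Commute.refl e).pow_right 5).eq)
    have hmem : e ^ 5 ∈ closure (fixedSet D (e ^ 5)) := by
      have ha5 : a ^ 5 = 1 := orderOf_dvd_iff_pow_eq_one.1 (by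
        have := (zpowers (e ^ 5)).orderOf_dvd_natCard ha
        rwa [Nat.card_zpowers, ho] at this)
      have h5 : e ^ 5 = b ^ 5 := by
        rw [hab', (hcm a ha b hb).mul_pow, ha5, one_mul]
      have hb5 := pow_mem hb 5
      rwa [← h5] at hb5
    exact hne (mem_bot.1 (hdis ▸ mem_inf.2 ⟨mem_zpowers _, hmem⟩))
  refine ⟨⟨⟨⟨fun a b => Subtype.ext (hab a a.2 b b.2)⟩⟩, hexp⟩, ?_⟩
  obtain ⟨⟨x, hxP⟩, hx⟩ := exists_prime_orderOf_dvd_card' (G := P) 5 (by rw [hE]; norm_num)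
  rw [← Subgroup.orderOf_coe] at hx
  change orderOf x = 5 at hx
  obtain ⟨hsym, F, -, -, -, -, -, -, hC, hdis⟩ := h.2 x hx
  obtain ⟨φ, hφ, hφF⟩ := hsym
  have hS : closure (fixedSet D x) = φ.range := by rw [hφF, closure_image_swp]
  rw [hS] at hC hdis
  have hxφ : ∀ τ, Commute x (φ τ) := fun τ =>
    (mem_centralizer_singleton_iff.1 (hC ▸ mem_sup_right (show φ τ ∈ φ.range from ⟨τ, rfl⟩) :
      φ τ ∈ centralizer ({x} : Set G))).symm
  have hcm : ∀ a ∈ zpowers x, ∀ b ∈ φ.range, Commute a b := by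
    rintro a ha _ ⟨τ, rfl⟩
    obtain ⟨j, rfl⟩ := mem_zpowers_iff.1 ha
    exact (hxφ τ).zpow_left j
  have hdec : ∀ g, Commute g x → ∃ a ∈ zpowers x, ∃ τ, g = a * φ τ := by
    intro g hg
    obtain ⟨a, ha, _, ⟨τ, rfl⟩, e⟩ := exists_mul_of_mem_sup hcm (hC ▸ mem_centralizer_singleton_iff.2 hg.eq :
      g ∈ zpowers x ⊔ φ.range)
    exact ⟨a, ha, τ, e⟩
  have hxle : zpowers x ≤ P := zpowers_le.2 hxP
  set Y := P ⊓ φ.range with hY
  have hdis' : zpowers x ⊓ Y = ⊥ := le_bot_iff.1 (hdis ▸ inf_le_inf_left _ inf_le_right)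
  have hPeq : zpowers x ⊔ Y = P := by
    refine le_antisymm (sup_le hxle inf_le_left) fun g hg => ?_
    obtain ⟨a, ha, τ, rfl⟩ := hdec g (hab g hg x hxP)
    refine mul_mem (mem_sup_left ha) (mem_sup_right (mem_inf.2 ⟨?_, τ, rfl⟩))
    have := mul_mem (inv_mem (hxle ha)) hg
    rwa [inv_mul_cancel_left] at this
  have hYcard : Nat.card Y = 5 := by
    have := card_sup_of_commute (zpowers x) Y (fun a ha b hb => hab a (hxle ha) b hb.1) hdis'
    rw [hPeq, hE, Nat.card_zpowers, hx] at this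
    omega
  obtain ⟨y, hy, hYy⟩ := exists_gen_prime (by norm_num) hYcard
  obtain ⟨σ, hσy⟩ : y ∈ φ.range := (hYy ▸ mem_zpowers y : y ∈ Y).2
  have hσ : orderOf σ = 5 := by rw [← orderOf_injective φ hφ, hσy, hy]
  obtain ⟨ψ₀, hψ₀, hψ₀im, hψ₀c, hψ₀inf, hψ₀sup⟩ := exists_outside hm hσ
  have hyP : y ∈ P := (hYy ▸ mem_zpowers y : y ∈ Y).1
  have hcent : ∀ g, g ∈ centralizer (P : Set G) ↔ Commute g x ∧ Commute g y := by
    intro g
    constructor
    · intro hg
      exact ⟨(mem_centralizer_iff.1 hg x hxP).symm, (mem_centralizer_iff.1 hg y hyP).symm⟩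
    · rintro ⟨h1, h2⟩
      have : P ≤ centralizer ({g} : Set G) := by
        rw [← hPeq, hYy, sup_le_iff, zpowers_le, zpowers_le]
        exact ⟨mem_centralizer_singleton_iff.2 h1.symm.eq, mem_centralizer_singleton_iff.2 h2.symm.eq⟩
      exact mem_centralizer_iff.2 fun p hp => mem_centralizer_singleton_iff.1 (this hp)
  set ψ := φ.comp ψ₀ with hψdef
  have hψC : ψ.range ≤ centralizer (P : Set G) := by
    rintro _ ⟨τ, rfl⟩
    exact (hcent _).2 ⟨(hxφ _).symm, hσy ▸ ((hψ₀c τ).map φ).symm⟩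
  have hfix : D ∩ (centralizer (P : Set G) : Set G) = ψ '' Swp (m - 5) := by
    ext z
    rw [hψdef, MonoidHom.coe_comp, Set.image_comp, hψ₀im]
    constructor
    · rintro ⟨hzD, hz⟩
      obtain ⟨h1, h2⟩ := (hcent z).1 hz
      obtain ⟨t, ht, rfl⟩ : z ∈ φ '' Swp m := hφF ▸ ⟨hzD, h1.symm⟩
      refine ⟨t, (commute_five_iff hm hσ ht).1 ?_, rfl⟩
      rw [← hσy, commute_map_iff hφ] at h2
      exact h2.symm
    · rintro ⟨t, ht, rfl⟩
      have ht' : φ t ∈ fixedSet D x := hφF ▸ ⟨t, ht.1, rfl⟩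
      exact ⟨ht'.1, (hcent _).2 ⟨ht'.2.symm, hσy ▸ (((commute_five_iff hm hσ ht.1).2 ht).map φ).symm⟩⟩
  refine ⟨ψ, hφ.comp hψ₀, hfix, ?_, ?_, ?_, ?_, ?_⟩
  · rw [eq_bot_iff]
    intro g hg
    obtain ⟨hgP, τ, rfl⟩ := mem_inf.1 hg
    have hgY : φ (ψ₀ τ) ∈ Y := mem_inf.2 ⟨hgP, ψ₀ τ, rfl⟩
    rw [hYy, ← hσy, ← MonoidHom.map_zpowers] at hgY
    obtain ⟨u, hu, hue⟩ := hgY
    rw [hφ hue] at hu
    have h0 : ψ₀ τ = 1 := mem_bot.1 (hψ₀inf ▸ mem_inf.2 ⟨hu, τ, rfl⟩)
    show φ (ψ₀ τ) ∈ (⊥ : Subgroup G)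
    rw [h0, map_one]
    exact one_mem _
  · intro a ha b hb
    exact mem_centralizer_iff.1 (hψC hb) a ha
  · refine le_antisymm (sup_le (fun a ha => mem_centralizer_iff.2 fun b hb => hab b hb a ha) hψC) fun g hg => ?_
    obtain ⟨h1, h2⟩ := (hcent g).1 hg
    obtain ⟨a, ha, τ, rfl⟩ := hdec g h1
    have hτ : Commute (φ τ) y := by
      have : Commute a y := hab a (hxle ha) y hyP
      simpa using this.inv_left.mul_left h2
    rw [← hσy, commute_map_iff hφ] at hτ
    refine mul_mem (mem_sup_left (hxle ha)) ?_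
    have := mem_map_of_mem φ (hψ₀sup ▸ mem_centralizer_singleton_iff.2 hτ.eq : τ ∈ zpowers σ ⊔ ψ₀.range)
    rw [Subgroup.map_sup, MonoidHom.map_zpowers, hσy, ← MonoidHom.range_comp] at this
    exact sup_le_sup_right (zpowers_le.2 hyP) _ this
  · intro g hg z hz
    rw [← hfix] at hz ⊢
    refine ⟨hconj g z hz.1, mem_centralizer_iff.2 fun p hp => ?_⟩
    have hp' : g⁻¹ * p * g ∈ P := by
      have := (mem_normalizer_iff.1 (inv_mem hg) p).1 hp
      rwa [inv_inv] at this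
    have := congrArg (fun u => g * u * g⁻¹) (mem_centralizer_iff.1 hz.2 _ hp')
    simpa [mul_assoc] using this
  · -- the normaliser
    set N := normalizer (P : Set G) with hN
    have htrans : ∀ z ∈ (P : Set G) \ {1}, ∃ g ∈ N, g * x * g⁻¹ = z := by
      rintro z ⟨hzP, hz1⟩
      have hz : orderOf z = 5 := orderOf_eq_prime (hexp z hzP) hz1
      obtain ⟨g, hg⟩ := h.exists_conj hx hz
      set C := centralizer ({z} : Set G) with hCz
      have h1 : (E : Subgroup G) ≤ C := fun p hp => mem_centralizer_singleton_iff.2 (hab p hp z hzP).eq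
      have h2 : ((g • E : Sylow 5 G) : Subgroup G) ≤ C := by
        rintro p hp
        rw [Sylow.coe_subgroup_smul] at hp
        obtain ⟨q, hq, rfl⟩ := hp
        rw [mem_centralizer_singleton_iff, ← hg]
        exact ((hab q hq x hxP).map (MulAut.conj g)).eq
      obtain ⟨c, hc⟩ := MulAction.exists_smul_eq C ((g • E).subtype h2) (E.subtype h1)
      rw [Sylow.smul_subtype] at hc
      have hc' : ((c : G) * g) • E = E := by
        rw [mul_smul]
        exact Sylow.subtype_injective hc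
      refine ⟨c * g, ?_, ?_⟩
      · rw [hN, hP]
        exact (Sylow.smul_eq_iff_mem_normalizer).1 hc'
      · rw [show (c : G) * g * x * ((c : G) * g)⁻¹ = c * (g * x * g⁻¹) * (c : G)⁻¹ by group, hg,
          mul_inv_eq_iff_eq_mul]
        exact mem_centralizer_singleton_iff.1 c.2
    have hxne : x ∈ (P : Set G) \ {1} := ⟨hxP, fun e => by
      rw [Set.mem_singleton_iff] at e; rw [e, orderOf_one] at hx; norm_num at hx⟩
    rw [card_mul_orbit N x ((P : Set G) \ {1}) hxne (fun g hg z hz =>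
        ⟨(mem_normalizer_iff.1 hg z).1 hz.1, fun e => hz.2 (by simpa [mul_inv_eq_one] using e)⟩) htrans,
      Set.ncard_sdiff_singleton_of_mem (one_mem P), ← Nat.card_coe_set_eq, SetLike.coe_sort_coe, hE]
    set M := (normalizer ((zpowers σ : Subgroup (Perm (Fin m))) : Set (Perm (Fin m)))).map φ with hM
    have hMr : M ≤ φ.range := map_le_range φ _
    have hNC : N ⊓ centralizer ({x} : Set G) = zpowers x ⊔ M := by
      refine le_antisymm (fun g hg => ?_) (sup_le ?_ ?_)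
      · obtain ⟨hgN, hgx⟩ := mem_inf.1 hg
        obtain ⟨a, ha, τ, rfl⟩ := hdec g (mem_centralizer_singleton_iff.1 hgx)
        refine mul_mem (mem_sup_left ha) (mem_sup_right (mem_map_of_mem φ ?_))
        have hτN : φ τ ∈ N := by
          have := mul_mem (inv_mem (le_normalizer (hxle ha))) hgN
          rwa [inv_mul_cancel_left] at this
        have hmem : φ τ * y * (φ τ)⁻¹ ∈ Y := mem_inf.2 ⟨(mem_normalizer_iff.1 hτN y).1 hyP,
          mul_mem (mul_mem ⟨τ, rfl⟩ ⟨σ, hσy⟩) (inv_mem ⟨τ, rfl⟩)⟩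
        rw [hYy, ← hσy, ← map_inv, ← map_mul, ← map_mul, ← MonoidHom.map_zpowers] at hmem
        obtain ⟨u, hu, hue⟩ := hmem
        exact mem_normalizer_zpowers.2 (hφ hue ▸ hu)
      · exact zpowers_le.2 (mem_inf.2 ⟨le_normalizer hxP, mem_centralizer_singleton_iff.2 rfl⟩)
      · rintro _ ⟨τ, hτ, rfl⟩
        refine mem_inf.2 ⟨mem_normalizer_fintype fun p hp => ?_, mem_centralizer_singleton_iff.2 (hxφ τ).symm.eq⟩
        have hle : P ≤ P.comap (MulAut.conj (φ τ)).toMonoidHom := by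
          conv_lhs => rw [← hPeq, hYy]
          refine sup_le (zpowers_le.2 ?_) (zpowers_le.2 ?_)
          · show φ τ * x * (φ τ)⁻¹ ∈ P
            rw [← (hxφ τ).eq, mul_inv_cancel_right]
            exact hxP
          · show φ τ * y * (φ τ)⁻¹ ∈ P
            have := mem_map_of_mem φ (mem_normalizer_zpowers.1 hτ)
            rw [MonoidHom.map_zpowers, hσy, map_mul, map_mul, map_inv, hσy] at this
            exact (zpowers_le.2 hyP) this
        exact hle hp
    rw [hNC, card_sup_of_commute (zpowers x) M (fun a ha b hb => hcm a ha b (hMr hb))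
      (le_bot_iff.1 (hdis ▸ inf_le_inf_left _ hMr)), Nat.card_zpowers, hx, card_map_of_injective hφ,
      card_normalizer_five hm hσ]
    ring

end Cfsg.Lib.OrderFive
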