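import Cfsg.Agent.ThreeTransposition.OrderFive.Sylow
import Cfsg.Agent.ThreeTransposition.M23Count.Centraliser

/-!
From the descended class to the members commuting with a given one: elements of order five.
-/

set_option autoImplicit false
set_option linter.unusedSectionVars false

namespace Cfsg.Lib.OrderFive

open Cfsg Equiv Subgroup Cfsg.Lib.ThreeTr Cfsg.Lib.ElevenNorm

universe u

variable {G : Type u} [Group G]

/-- The members of a set commuting with a 5-group are congruent in number to the set modulo five. -/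
theorem ncard_fixed_mod [Finite G] (P : Subgroup G) (hP : IsPGroup 5 P) (S : Set G)
    (hinv : ∀ g ∈ P, ∀ y ∈ S, g * y * g⁻¹ ∈ S) :
    ({y : G | y ∈ S ∧ ∀ g ∈ P, Commute g y}).ncard % 5 = S.ncard % 5 := by
  haveI : Fact (Nat.Prime 5) := ⟨by norm_num⟩
  letI : MulAction P S :=
    { smul := fun g y => ⟨g * y * (g : G)⁻¹, hinv g g.2 y y.2⟩
      one_smul := fun y => Subtype.ext (show (1 : G) * y * (1 : G)⁻¹ = y by group)
      mul_smul := fun g k y => Subtype.ext (show (g : G) * k * y * ((g : G) * k)⁻¹ = g * (k * y * (k : G)⁻¹) * (g : G)⁻¹ by group) }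
  have hsmul : ∀ (g : P) (y : S), ((g • y : S) : G) = g * y * (g : G)⁻¹ := fun _ _ => rfl
  have h := hP.card_modEq_card_fixedPoints S
  rw [Nat.ModEq, Nat.card_coe_set_eq] at h
  rw [h]
  congr 1
  rw [← Nat.card_coe_set_eq]
  refine Nat.card_congr
    { toFun := fun y => ⟨⟨y.1, y.2.1⟩, fun g => Subtype.ext (by
        rw [hsmul, (y.2.2 g g.2).eq, mul_inv_cancel_right])⟩
      invFun := fun y => ⟨y.1.1, y.1.2, fun g hg => mul_inv_eq_iff_eq_mul.1
        ((hsmul ⟨g, hg⟩ y.1).symm.trans (congrArg Subtype.val (y.2 ⟨g, hg⟩)))⟩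
      left_inv := fun _ => rfl
      right_inv := fun _ => rfl }

theorem isPGroup_zpowers [Finite G] {x : G} (hx : orderOf x = 5) : IsPGroup 5 (zpowers x) :=
  IsPGroup.of_card (n := 1) (by rw [Nat.card_zpowers, hx, pow_one])

theorem forall_zpowers_iff (x y : G) : (∀ g ∈ zpowers x, Commute g y) ↔ Commute x y := by
  refine ⟨fun h => h x (mem_zpowers x), fun h g hg => ?_⟩
  obtain ⟨j, rfl⟩ := mem_zpowers_iff.1 hg
  exact h.zpow_left j

theorem conj_mem_fixedSet {D : Set G} (hconj : ∀ g : G, ∀ y ∈ D, g * y * g⁻¹ ∈ D) {x : G} :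
    ∀ a ∈ fixedSet D x, ∀ b ∈ fixedSet D x, a * b * a⁻¹ ∈ fixedSet D x := fun a ha b hb =>
  ⟨hconj a b hb.1, (ha.2.mul_right hb.2).mul_right ha.2.inv_right⟩

theorem ncard_fixedSet_mod [Finite G] (S : Set G) {x : G} (hinv : ∀ y ∈ S, x * y * x⁻¹ ∈ S) (hx : orderOf x = 5) :
    (fixedSet S x).ncard % 5 = S.ncard % 5 := by
  have hS : ∀ g ∈ zpowers x, ∀ y ∈ S, g * y * g⁻¹ ∈ S := by
    intro g hg
    obtain ⟨j, rfl⟩ := (Submonoid.mem_powers_iff g x).1
      ((isOfFinOrder_of_finite x).mem_powers_iff_mem_zpowers.2 hg)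
    induction j with
    | zero => intro y hy; simpa using hy
    | succ j ih =>
      intro y hy
      have := hinv _ (ih (zpow_mem (mem_zpowers x) (j : ℤ) |> fun h => by simpa using h) y hy)
      rw [pow_succ']
      simpa [mul_assoc] using this
  rw [← ncard_fixed_mod (zpowers x) (isPGroup_zpowers hx) S hS]
  congr 2
  ext y
  exact and_congr_right fun _ => (forall_zpowers_iff x y).symm

theorem fiveSplit_cards [Finite G] {D : Set G} {m : ℕ} (h : FiveSplit D m) {x : G} (hx : orderOf x = 5) :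
    Nat.card (centralizer ({x} : Set G)) = 5 * m.factorial ∧
      Nat.card (normalizer ((zpowers x : Subgroup G) : Set G)) = 20 * m.factorial := by
  obtain ⟨hs, F, hF20, hxF, -, hFS, hcomm, hN, hC, hdis⟩ := h.2 x hx
  have hScard : Nat.card ↥(closure (fixedSet D x)) = m.factorial := by
    obtain ⟨e⟩ := hs.iso
    rw [Nat.card_congr e.toEquiv, Nat.card_perm, Nat.card_fin]
  constructor
  · rw [← hC, card_sup_of_commute (zpowers x) _ (fun a ha b hb => hcomm a (hxF ha) b hb) hdis, Nat.card_zpowers, hx,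
      hScard]
  · rw [← hN, card_sup_of_commute F _ hcomm hFS, hF20, hScard]

theorem eq_pow_five {K Q : Type*} [Group K] [Finite K] [Group Q] (f : K →* Q) (hker : f.ker ≤ center K)
    (hk : ¬ 5 ∣ Nat.card f.ker) {y : K} (hy : y ^ 5 = 1) (k : K) {w : K} (hw : w ^ 5 = 1)
    (he : f (k * y * k⁻¹) = f w) : k * y * k⁻¹ = w := by
  haveI : Fact (Nat.Prime 5) := ⟨by norm_num⟩
  set z : K := w⁻¹ * (k * y * k⁻¹) with hz
  have hzk : z ∈ f.ker := by rw [MonoidHom.mem_ker, hz, map_mul, map_inv, he, inv_mul_cancel]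
  have hzc : Commute w z := mem_center_iff.1 (hker hzk) _
  have h5 : z ^ 5 = 1 := by
    have h1 : (w * z) ^ 5 = 1 := by rw [hz, mul_inv_cancel_left, conj_pow, hy, mul_one, mul_inv_cancel]
    rwa [hzc.mul_pow, hw, one_mul] at h1
  have hz1 : z = 1 := by
    by_contra hne
    have h := f.ker.orderOf_dvd_natCard hzk
    rw [orderOf_eq_prime h5 hne] at h
    exact hk h
  rw [hz] at hz1
  exact (inv_mul_eq_one.1 hz1).symm

variable [Finite G] {D : Set G} {N k l l' mm m' m'' : ℕ}

/-- What a class carries over its neighbourhoods. -/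
structure Over (D : Set G) (N k l l' mm m' m'' n : ℕ) : Prop where
  solid : Solid D N k l l' mm m' m''
  lower : ∃ d ∈ D, FiveSplit (descSet D d) n

variable {n : ℕ} (h : Over D N k l l' mm m' m'' n)
include h

theorem Over.cls : IsThreeTranspositionClass D := h.solid.full.cls

theorem Over.twin : TwinFree D := h.solid.full.tower.twin

theorem Over.conj_D (g : G) : ∀ y ∈ D, g * y * g⁻¹ ∈ D := fun _ hy => conj_mem h.cls g hy

theorem symSet_lift (hn : 5 ≤ n) {d : G} (hd : d ∈ D) {x : G} (hxd : Commute x d)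
    (hxK : x ∈ closure (perp D d))
    (hsym : SymSet (fixedSet (descSet D d) (QuotientGroup.mk (⟨x, hxK⟩ : ↥(closure (perp D d))))) n)
    (hcent : ∀ g : ↥(closure (perp D d)),
      Commute (QuotientGroup.mk (⟨x, hxK⟩ : ↥(closure (perp D d))) : _ ⧸ center ↥(closure (perp D d)))
        (QuotientGroup.mk g) → Commute x (g : G)) :
    SymSet (perp (fixedSet D x) d) n := by
  set K := closure (perp D d) with hK
  set F := perp (fixedSet D x) d with hF
  have hFsub : F ⊆ D := fun y hy => hy.1.1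
  have hE : IsThreeTranspositionSet F :=
    ⟨fun y hy => h.cls.1.1 y (hFsub hy), fun y hy z hz => h.cls.1.2 y (hFsub hy) z (hFsub hz)⟩
  have hdF : d ∈ fixedSet D x := ⟨hd, hxd⟩
  have hconj : ∀ a ∈ F, ∀ b ∈ F, a * b * a⁻¹ ∈ F := by
    intro a ha b hb
    have hm := conj_mem_fixedSet h.conj_D a ha.1 b hb.1
    have had : a * d * a⁻¹ = d := by rw [← ha.2.2.eq, mul_inv_cancel_right]
    refine ⟨hm, fun e => hb.2.1 ?_, ?_⟩
    · exact mul_left_cancel (mul_right_cancel (e.trans had.symm))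
    · rw [← had]
      exact (conj_commute_iff a d b).2 hb.2.2
  obtain ⟨φ, hφ, hφF⟩ := hsym
  have hpre : ∀ σ ∈ Swp n, ∃ y ∈ F, ∃ hy : y ∈ K, QuotientGroup.mk (⟨y, hy⟩ : K) = φ σ := by
    intro σ hσ
    have hmem : φ σ ∈ fixedSet (descSet D d) (QuotientGroup.mk (⟨x, hxK⟩ : K)) := hφF ▸ ⟨σ, hσ, rfl⟩
    obtain ⟨⟨y, hy, he⟩, hc⟩ := hmem
    rw [← he] at hc
    exact ⟨y, ⟨⟨hy.1, hcent y hc⟩, hy.2.1, hy.2.2⟩, y.2, he⟩
  have hcard : F.ncard = n.choose 2 := by
    have hsub : F ⊆ perp D d := fun y hy => ⟨hy.1.1, hy.2.1, hy.2.2⟩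
    rw [← ncard_descImg h.cls h.twin hd hsub, ← SymSet.ncard ⟨φ, hφ, hφF⟩]
    congr 1
    ext q
    constructor
    · rintro ⟨y, hy, rfl⟩
      exact ⟨⟨y, hsub hy, rfl⟩, (show Commute (⟨x, hxK⟩ : K) y from Subtype.ext hy.1.2.eq).map (QuotientGroup.mk' _)⟩
    · rintro ⟨⟨y, hy, rfl⟩, hc⟩
      exact ⟨y, ⟨⟨hy.1, hcent y hc⟩, hy.2.1, hy.2.2⟩, rfl⟩
  obtain ⟨k, rfl⟩ : ∃ k, n = k + 1 := ⟨n - 1, by omega⟩
  choose s hsF hsK hse using fun i : Fin k => hpre (Equiv.swap i.castSucc i.succ)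
    (swap_mem_swp (Fin.castSucc_lt_succ).ne)
  have hsperp : ∀ i, s i ∈ perp D d := fun i => ⟨(hsF i).1.1, (hsF i).2.1, (hsF i).2.2⟩
  have hiff : ∀ i j, Commute (s i) (s j) ↔
      Commute (Equiv.swap i.castSucc i.succ) (Equiv.swap j.castSucc j.succ) := by
    intro i j
    rw [← desc_commute_iff h.cls h.twin hd (x := ⟨s i, hsK i⟩) (y := ⟨s j, hsK j⟩) (hsperp i) (hsperp j),
      hse, hse, commute_map_iff hφ]
  obtain ⟨ψ, hψ, -, hψF⟩ := exists_hom_of_path hE hconj (by omega) s hsF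
    (fun i j hij e => by
      have := (hiff i j).1 e
      rw [show j.castSucc = i.succ from Fin.ext (by simp; omega)] at this
      exact not_commute_swap (Fin.castSucc_lt_succ).ne (by simp [Fin.ext_iff]; omega) (by simp [Fin.ext_iff]; omega) this)
    (fun i j hij => (hiff i j).2 (commute_of_disjoint (by
      rw [Perm.support_swap (by simp [Fin.ext_iff]), Perm.support_swap (by simp [Fin.ext_iff])]
      simp [Fin.ext_iff]
      omega)))
  refine ⟨ψ, hψ, (Set.eq_of_subset_of_ncard_le hψF ?_ (Set.toFinite _)).symm⟩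
  rw [hcard, SymSet.ncard ⟨ψ, hψ, rfl⟩]

theorem Over.at_dist (hn : 5 ≤ n) {d : G} (hd : d ∈ D) (hQ : FiveSplit (descSet D d) n) {x : G} (hxd : Commute x d)
    (hx : orderOf x = 5) : SymSet (perp (fixedSet D x) d) n ∧
      Nat.card ↥(centralizer ({d} : Set G) ⊓ centralizer ({x} : Set G)) = 2 * (5 * n.factorial) ∧
      Nat.card ↥(centralizer ({d} : Set G) ⊓ normalizer ((zpowers x : Subgroup G) : Set G)) =
        2 * (20 * n.factorial) ∧
      ∀ y : G, orderOf y = 5 → Commute y d → ∃ g : G, g * x * g⁻¹ = y := by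
  haveI : Fact (Nat.Prime 5) := ⟨by norm_num⟩
  rw [h.solid.centralizer_eq hd]
  set K := closure (perp D d) with hK
  have hmemK : ∀ {y}, Commute y d → y ∈ K := fun hy => by
    rw [hK, ← h.solid.centralizer_eq hd, mem_centralizer_singleton_iff]
    exact hy.eq
  set f : K →* K ⧸ center K := QuotientGroup.mk' (center K) with hf
  have hfs : Function.Surjective f := QuotientGroup.mk'_surjective _
  have hker : f.ker = center K := QuotientGroup.ker_mk' _
  have hk : Nat.card f.ker = 2 := by rw [hker]; exact h.solid.card_center_closure_perp hd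
  have hk5 : ¬ 5 ∣ Nat.card f.ker := by rw [hk]; norm_num
  have hord : ∀ {y : G} (hy : orderOf y = 5) (hyK : y ∈ K),
      orderOf (f ⟨y, hyK⟩) = 5 ∧ (⟨y, hyK⟩ : K) ^ 5 = 1 := by
    intro y hy hyK
    have h5 : (⟨y, hyK⟩ : K) ^ 5 = 1 := Subtype.ext (by
      show y ^ 5 = 1
      rw [← hy, pow_orderOf_eq_one])
    refine ⟨orderOf_eq_prime (by rw [← map_pow, h5, map_one]) fun e => hk5 ?_, h5⟩
    have h' := f.ker.orderOf_dvd_natCard (x := ⟨y, hyK⟩) (MonoidHom.mem_ker.2 e)
    rwa [Subgroup.orderOf_mk, hy] at h'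
  obtain ⟨ho, hX5⟩ := hord hx (hmemK hxd)
  set X : K := ⟨x, hmemK hxd⟩ with hX
  obtain ⟨hcard, hcardN⟩ := fiveSplit_cards hQ ho
  obtain ⟨hsym, -⟩ := hQ.2 _ ho
  have hker' : f.ker ≤ center K := hker.le
  have hnorm : ∀ g : K, f g ∈ normalizer ((zpowers (f X) : Subgroup (K ⧸ center K)) : Set (K ⧸ center K)) ↔
      (g : G) ∈ normalizer ((zpowers x : Subgroup G) : Set G) := by
    intro g
    rw [mem_normalizer_zpowers, mem_normalizer_zpowers, mem_zpowers_iff, mem_zpowers_iff]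
    constructor
    · rintro ⟨j, hj⟩
      have := eq_pow_five f hker' hk5 hX5 g (w := X ^ j)
        (by rw [← zpow_natCast (X ^ j) 5, ← zpow_mul, mul_comm, zpow_mul, zpow_natCast, hX5, one_zpow])
        (by rw [map_mul, map_mul, map_inv, map_zpow, hj])
      exact ⟨j, by simpa [X] using (congrArg Subtype.val this).symm⟩
    · rintro ⟨j, hj⟩
      refine ⟨j, ?_⟩
      rw [← map_zpow, ← map_inv, ← map_mul, ← map_mul]
      exact congrArg f (Subtype.ext (by simpa [X] using hj))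
  have hcent : ∀ g : K, f g ∈ centralizer ({f X} : Set (K ⧸ center K)) ↔ (g : G) ∈ centralizer ({x} : Set G) := by
    intro g
    rw [mem_centralizer_singleton_iff, mem_centralizer_singleton_iff]
    constructor
    · intro e
      have := eq_pow_five f hker' hk5 hX5 g (w := X) hX5 (by rw [map_mul, map_mul, map_inv, e, mul_inv_cancel_right])
      rw [mul_inv_eq_iff_eq_mul] at this
      exact congrArg Subtype.val this
    · intro e
      rw [← map_mul, ← map_mul]
      exact congrArg f (Subtype.ext e)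
  refine ⟨?_, ?_, ?_, ?_⟩
  · exact symSet_lift h hn hd hxd _ hsym fun g e =>
      ((mem_centralizer_singleton_iff.1 ((hcent g).1 (mem_centralizer_singleton_iff.2 e.symm.eq))).symm)
  · have e : (centralizer ({f X} : Set (K ⧸ center K))).comap f = (K ⊓ centralizer ({x} : Set G)).subgroupOf K := by
      ext g
      rw [mem_comap, hcent, mem_subgroupOf, mem_inf]
      exact ⟨fun hg => ⟨g.2, hg⟩, fun hg => hg.2⟩
    rw [← hcard, ← hk, ← card_ker_mul f hfs, e, Nat.card_congr (subgroupOfEquivOfLe inf_le_left).toEquiv]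
  · have e : (normalizer ((zpowers (f X) : Subgroup (K ⧸ center K)) : Set (K ⧸ center K))).comap f =
        (K ⊓ normalizer ((zpowers x : Subgroup G) : Set G)).subgroupOf K := by
      ext g
      rw [mem_comap, hnorm, mem_subgroupOf, mem_inf]
      exact ⟨fun hg => ⟨g.2, hg⟩, fun hg => hg.2⟩
    rw [← hcardN, ← hk, ← card_ker_mul f hfs, e, Nat.card_congr (subgroupOfEquivOfLe inf_le_left).toEquiv]
  · intro y hy hyd
    obtain ⟨hy', hY5⟩ := hord hy (hmemK hyd)
    obtain ⟨q, hq⟩ := hQ.exists_conj ho hy'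
    obtain ⟨g, rfl⟩ := hfs q
    refine ⟨g, ?_⟩
    have := eq_pow_five f hker' hk5 hX5 g hY5 (by rw [map_mul, map_mul, map_inv, hq])
    exact congrArg Subtype.val this

end Cfsg.Lib.OrderFive
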