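import Cfsg.Agent.ThreeTransposition.RankThree
import Cfsg.Agent.S2530

/-!
Sets of 3-transpositions which are the transpositions of a symmetric group, and the step from the neighbourhoods to
the whole set: if the neighbourhood of every member is the set of transpositions on `m` points then every connected
part is the set of transpositions on `m + 2` points.
-/

set_option autoImplicit false
set_option linter.unusedSectionVars false

namespace Cfsg.Lib.OrderFive

open Cfsg Equiv Equiv.Perm Cfsg.Lib.ThreeTr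

variable {G : Type*} [Group G] {F : Set G} {m : ℕ}

/-- The transpositions of `m` points. -/
def Swp (m : ℕ) : Set (Perm (Fin m)) := {σ | σ.IsSwap}

/-- `F` is the set of transpositions of a symmetric group of degree `m`. -/
def SymSet (F : Set G) (m : ℕ) : Prop :=
  ∃ φ : Perm (Fin m) →* G, Function.Injective φ ∧ F = φ '' Swp m

theorem swap_mem_swp {i j : Fin m} (h : i ≠ j) : swap i j ∈ Swp m := ⟨i, j, h, rfl⟩

theorem support_injOn : Set.InjOn (fun σ : Perm (Fin m) => σ.support) (Swp m) := by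
  rintro _ ⟨a, b, hab, rfl⟩ _ ⟨c, d, hcd, rfl⟩ h
  simp only [support_swap hab, support_swap hcd] at h
  have ha : a = c ∨ a = d := by
    have : a ∈ ({c, d} : Finset (Fin m)) := h ▸ Finset.mem_insert_self a {b}
    simpa using this
  have hb : b = c ∨ b = d := by
    have : b ∈ ({c, d} : Finset (Fin m)) := h ▸ Finset.mem_insert_of_mem (Finset.mem_singleton_self b)
    simpa using this
  rcases ha with rfl | rfl <;> rcases hb with rfl | rfl
  · exact absurd rfl hab
  · rfl
  · exact swap_comm _ _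
  · exact absurd rfl hab

/-- The transpositions avoiding `A`. -/
def Avoid (A : Finset (Fin m)) : Set (Perm (Fin m)) := {σ | σ ∈ Swp m ∧ _root_.Disjoint σ.support A}

theorem ncard_avoid (A : Finset (Fin m)) : (Avoid A).ncard = (m - A.card).choose 2 := by
  have h : (fun σ : Perm (Fin m) => σ.support) '' Avoid A = ↑(Finset.powersetCard 2 Aᶜ) := by
    ext s
    simp only [Set.mem_image, Finset.mem_coe, Finset.mem_powersetCard]
    constructor
    · rintro ⟨σ, ⟨hσ, hd⟩, rfl⟩
      exact ⟨fun x hx => Finset.mem_compl.2 (Finset.disjoint_left.1 hd hx), card_support_eq_two.2 hσ⟩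
    · rintro ⟨hsub, hs⟩
      obtain ⟨x, y, hxy, rfl⟩ := Finset.card_eq_two.1 hs
      refine ⟨swap x y, ⟨swap_mem_swp hxy, ?_⟩, support_swap hxy⟩
      rw [support_swap hxy]
      exact Finset.disjoint_left.2 fun z hz => Finset.mem_compl.1 (hsub hz)
  rw [← (support_injOn.mono fun σ hσ => hσ.1).ncard_image, h, Set.ncard_coe_finset, Finset.card_powersetCard,
    Finset.card_compl, Fintype.card_fin]

theorem not_commute_swap {a b c : Fin m} (hab : a ≠ b) (hbc : b ≠ c) (hac : a ≠ c) :
    ¬ Commute (swap a b) (swap b c) := by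
  intro h
  have := congrArg (fun σ : Perm (Fin m) => σ a) h.eq
  simp only [Perm.mul_apply, swap_apply_of_ne_of_ne hab hac, swap_apply_left] at this
  exact hbc this

theorem commute_of_disjoint {σ τ : Perm (Fin m)} (h : _root_.Disjoint σ.support τ.support) : Commute σ τ :=
  (disjoint_iff_disjoint_support.2 h).commute

/-- Two transpositions share a point unless they are disjoint or equal. -/
theorem exists_shared {σ τ : Perm (Fin m)} (hσ : σ ∈ Swp m) (hτ : τ ∈ Swp m) (hne : σ ≠ τ)
    (h : ¬ _root_.Disjoint σ.support τ.support) :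
    ∃ a b c : Fin m, a ≠ b ∧ b ≠ c ∧ a ≠ c ∧ σ = swap a b ∧ τ = swap b c := by
  obtain ⟨z, hz, hz'⟩ := Finset.not_disjoint_iff.1 h
  obtain ⟨p, q, hpq, rfl⟩ := hσ
  obtain ⟨r, s, hrs, rfl⟩ := hτ
  simp only [support_swap hpq, Finset.mem_insert, Finset.mem_singleton] at hz
  simp only [support_swap hrs, Finset.mem_insert, Finset.mem_singleton] at hz'
  have key : ∀ u v : Fin m, swap u z = swap p q → swap z v = swap r s → u ≠ z → z ≠ v →
      ∃ a b c : Fin m, a ≠ b ∧ b ≠ c ∧ a ≠ c ∧ swap p q = swap a b ∧ swap r s = swap b c := by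
    intro u v e1 e2 h1 h2
    refine ⟨u, z, v, h1, h2, ?_, e1.symm, e2.symm⟩
    rintro rfl
    exact hne (by rw [← e1, ← e2, swap_comm])
  rcases hz with rfl | rfl <;> rcases hz' with rfl | rfl
  · exact key q s (swap_comm _ _) rfl hpq.symm hrs
  · exact key q r (swap_comm _ _) (swap_comm _ _) hpq.symm hrs.symm
  · exact key p s rfl rfl hpq hrs
  · exact key p r rfl (swap_comm _ _) hpq hrs.symm

theorem commute_iff {σ τ : Perm (Fin m)} (hσ : σ ∈ Swp m) (hτ : τ ∈ Swp m) :
    Commute σ τ ↔ σ = τ ∨ _root_.Disjoint σ.support τ.support := by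
  refine ⟨fun h => ?_, ?_⟩
  · by_contra hcon
    push Not at hcon
    obtain ⟨a, b, c, hab, hbc, hac, rfl, rfl⟩ := exists_shared hσ hτ hcon.1 hcon.2
    exact not_commute_swap hab hbc hac h
  · rintro (rfl | h)
    · exact Commute.refl _
    · exact commute_of_disjoint h

theorem exists_shared_of_not_commute {σ τ : Perm (Fin m)} (hσ : σ ∈ Swp m) (hτ : τ ∈ Swp m) (h : ¬ Commute σ τ) :
    ∃ a b c : Fin m, a ≠ b ∧ b ≠ c ∧ a ≠ c ∧ σ = swap a b ∧ τ = swap b c :=
  exists_shared hσ hτ (fun e => h ((commute_iff hσ hτ).2 (Or.inl e)))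
    fun e => h ((commute_iff hσ hτ).2 (Or.inr e))

theorem perp_swp {σ : Perm (Fin m)} (hσ : σ ∈ Swp m) : perp (Swp m) σ = Avoid σ.support := by
  ext τ
  constructor
  · rintro ⟨hτ, hne, hc⟩
    exact ⟨hτ, (((commute_iff hσ hτ).1 hc).resolve_left fun e => hne e.symm).symm⟩
  · rintro ⟨hτ, hd⟩
    refine ⟨hτ, fun e => ?_, commute_of_disjoint hd.symm⟩
    rw [e, disjoint_self, Finset.bot_eq_empty] at hd
    have := card_support_eq_two.2 hσ
    rw [hd] at this
    simp at this

theorem commute_map_iff {H : Type*} [Group H] {φ : H →* G} (hφ : Function.Injective φ) {x y : H} :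
    Commute (φ x) (φ y) ↔ Commute x y :=
  ⟨fun h => hφ (by rw [map_mul, map_mul]; exact h.eq), fun h => h.map φ⟩

theorem perp_image {H : Type*} [Group H] {φ : H →* G} (hφ : Function.Injective φ) (S : Set H) (x : H) :
    perp (φ '' S) (φ x) = φ '' perp S x := by
  ext y
  constructor
  · rintro ⟨⟨z, hz, rfl⟩, hne, hc⟩
    exact ⟨z, ⟨hz, fun e => hne (congrArg φ e), (commute_map_iff hφ).1 hc⟩, rfl⟩
  · rintro ⟨z, ⟨hz, hne, hc⟩, rfl⟩
    exact ⟨⟨z, hz, rfl⟩, fun e => hne (hφ e), hc.map φ⟩

theorem card_support_pair {σ : Perm (Fin m)} (hσ : σ ∈ Swp m) : σ.support.card = 2 := card_support_eq_two.2 hσ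

theorem SymSet.ncard (h : SymSet F m) : F.ncard = m.choose 2 := by
  obtain ⟨φ, hφ, rfl⟩ := h
  rw [Set.ncard_image_of_injective _ hφ]
  have := ncard_avoid (∅ : Finset (Fin m))
  simpa [Avoid] using this

theorem SymSet.ncard_perp (h : SymSet F m) {a : G} (ha : a ∈ F) : (perp F a).ncard = (m - 2).choose 2 := by
  obtain ⟨φ, hφ, rfl⟩ := h
  obtain ⟨σ, hσ, rfl⟩ := ha
  rw [perp_image hφ, Set.ncard_image_of_injective _ hφ, perp_swp hσ, ncard_avoid, card_support_pair hσ]

/-- Two noncommuting transpositions. -/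
theorem SymSet.ncard_common (h : SymSet F m) {a b : G} (ha : a ∈ F) (hb : b ∈ F) (hab : ¬ Commute a b) :
    (perp F a ∩ perp F b).ncard = (m - 3).choose 2 := by
  obtain ⟨φ, hφ, rfl⟩ := h
  obtain ⟨σ, hσ, rfl⟩ := ha
  obtain ⟨τ, hτ, rfl⟩ := hb
  rw [perp_image hφ, perp_image hφ, ← Set.image_inter hφ, Set.ncard_image_of_injective _ hφ, perp_swp hσ,
    perp_swp hτ]
  obtain ⟨p, q, r, hpq, hqr, hpr, rfl, rfl⟩ :=
    exists_shared_of_not_commute hσ hτ fun e => hab (e.map φ)
  have e : Avoid (swap p q).support ∩ Avoid (swap q r).support = Avoid ({p, q, r} : Finset (Fin m)) := by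
    ext u
    simp only [Avoid, Set.mem_inter_iff, Set.mem_setOf_eq, support_swap hpq, support_swap hqr,
      Finset.disjoint_insert_right, Finset.disjoint_singleton_right]
    tauto
  rw [e, ncard_avoid, Finset.card_eq_three.2 ⟨p, q, r, hpq, hpr, hqr, rfl⟩]

theorem conj_mem_of_mem_closure (hE : IsThreeTranspositionSet F) (hconj : ∀ a ∈ F, ∀ b ∈ F, a * b * a⁻¹ ∈ F)
    {g b : G} (hg : g ∈ Subgroup.closure F) (hb : b ∈ F) : g * b * g⁻¹ ∈ F := by
  induction hg using Subgroup.closure_induction_left with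
  | one => simpa using hb
  | mul_left a ha g _ ih =>
    rw [show a * g * b * (a * g)⁻¹ = a * (g * b * g⁻¹) * a⁻¹ by group]
    exact hconj a ha _ ih
  | inv_mul_cancel a ha g _ ih =>
    rw [inv_eq hE ha, show a * g * b * (a * g)⁻¹ = a * (g * b * g⁻¹) * a⁻¹ by group]
    exact hconj a ha _ ih

/-- The symmetric group on a path of members. -/
theorem exists_hom_of_path (hE : IsThreeTranspositionSet F) (hconj : ∀ a ∈ F, ∀ b ∈ F, a * b * a⁻¹ ∈ F) {n : ℕ}
    (hn : 4 ≤ n) (s : Fin n → G) (hs : ∀ i, s i ∈ F) (hnadj : ∀ i j : Fin n, i.val + 1 = j.val → ¬ Commute (s i) (s j))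
    (hfar : ∀ i j : Fin n, i.val + 1 < j.val → Commute (s i) (s j)) :
    ∃ φ : Perm (Fin (n + 1)) →* G, Function.Injective φ ∧ (∀ i : Fin n, φ (swap i.castSucc i.succ) = s i) ∧
      φ '' Swp (n + 1) ⊆ F := by
  obtain ⟨cs, hcs⟩ := Cfsg.Agent.S2530.result n
  have hval : ∀ i j : Fin n, CoxeterMatrix.A n i j =
      if i = j then 1 else if (j : ℕ) + 1 = i ∨ (i : ℕ) + 1 = j then 3 else 2 := fun i j => rfl
  have hl : (CoxeterMatrix.A n).IsLiftable s := by
    intro i j
    rw [hval]
    split_ifs with h1 h2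
    · subst h1; rw [pow_one, sq_eq_one hE (hs i)]
    · refine cube_of_not_commute hE (hs i) (hs j) ?_
      rcases h2 with h2 | h2
      · exact fun e => hnadj j i h2 e.symm
      · exact hnadj i j h2
    · push Not at h2
      refine (commute_iff_sq (sq_eq_one hE (hs i)) (sq_eq_one hE (hs j))).1 ?_
      rcases lt_trichotomy i.val j.val with h | h | h
      · exact hfar i j (by omega)
      · exact absurd (Fin.ext h) h1
      · exact (hfar j i (by omega)).symm
  let φ : Perm (Fin (n + 1)) →* G := cs.lift ⟨s, hl⟩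
  have hφ : ∀ i : Fin n, φ (swap i.castSucc i.succ) = s i := fun i => by
    rw [← hcs i]; exact cs.lift_apply_simple hl i
  refine ⟨φ, ?_, hφ, ?_⟩
  · rw [← MonoidHom.ker_eq_bot_iff]
    by_contra hne
    have hnt : Nontrivial φ.ker := (Subgroup.nontrivial_iff_ne_bot _).2 hne
    have hA := alternatingGroup_le_of_normal (α := Fin (n + 1)) (by simp; omega) hnt
    let i₀ : Fin n := ⟨0, by omega⟩
    let i₁ : Fin n := ⟨1, by omega⟩
    have hk : swap i₀.castSucc i₀.succ * swap i₁.castSucc i₁.succ ∈ φ.ker := hA (by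
      rw [mem_alternatingGroup, map_mul, sign_swap (by simp [Fin.ext_iff]), sign_swap (by simp [Fin.ext_iff])]
      rfl)
    rw [MonoidHom.mem_ker, map_mul, hφ, hφ] at hk
    apply hnadj i₀ i₁ rfl
    rw [mul_eq_one_iff_eq_inv, inv_eq hE (hs i₁)] at hk
    rw [hk]
  · have hrange : φ.range ≤ Subgroup.closure F := by
      rw [MonoidHom.range_eq_map, ← cs.subgroup_closure_range_simple, MonoidHom.map_closure, Subgroup.closure_le]
      rintro _ ⟨_, ⟨i, rfl⟩, rfl⟩
      rw [hcs, hφ]
      exact Subgroup.subset_closure (hs i)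
    rintro _ ⟨σ, hσ, rfl⟩
    let i₀ : Fin n := ⟨0, by omega⟩
    obtain ⟨a, b, hab, rfl⟩ := hσ
    obtain ⟨g, hg⟩ := isConj_iff.1 (isConj_swap (show i₀.castSucc ≠ i₀.succ by simp [Fin.ext_iff]) hab)
    rw [← hg, map_mul, map_mul, map_inv, hφ]
    exact conj_mem_of_mem_closure hE hconj (hrange ⟨g, rfl⟩) (hs i₀)

section Step

variable (hE : IsThreeTranspositionSet F) (hconj : ∀ a ∈ F, ∀ b ∈ F, a * b * a⁻¹ ∈ F)
  (hperp : ∀ a ∈ F, SymSet (perp F a) m) (hm : m = 5 ∨ 7 ≤ m)
  (htwo : m = 5 → ∀ a ∈ F, ∀ b ∈ F, ¬ Commute a b → (perp F a ∩ perp F b).ncard ≠ 2)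
include hE hconj hperp hm htwo

/-- A member at the end of the path. -/
theorem exists_endpoint {d : G} (hd : d ∈ F) {φ : Perm (Fin m) →* G} (hφ : Function.Injective φ)
    (hdF : perp F d = φ '' Swp m) :
    ∃ e ∈ F, ¬ Commute d e ∧ ∀ i j : Fin m, i.val + 1 = j.val → (Commute e (φ (swap i j)) ↔ j.val + 1 < m) := by
  have hm5 : 5 ≤ m := by omega
  let t : Fin m → Fin m → G := fun i j => φ (swap i j)
  let p0 : Fin m := ⟨0, by omega⟩
  let p1 : Fin m := ⟨1, by omega⟩
  let p2 : Fin m := ⟨2, by omega⟩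
  let p3 : Fin m := ⟨3, by omega⟩
  let u : Fin m := ⟨m - 3, by omega⟩
  let v : Fin m := ⟨m - 2, by omega⟩
  let w : Fin m := ⟨m - 1, by omega⟩
  have htF : ∀ {i j : Fin m}, i ≠ j → t i j ∈ perp F d := fun h => hdF ▸ ⟨_, swap_mem_swp h, rfl⟩
  have h01 : p0 ≠ p1 := by simp [p0, p1, Fin.ext_iff]
  set x := t p0 p1 with hx
  obtain ⟨ψ, hψ, hψF⟩ := hperp x (htF h01).1
  have hin : ∀ {y}, y ∈ perp F x → ∃ σ ∈ Swp m, ψ σ = y := fun hy => by
    rw [hψF] at hy; exact hy
  obtain ⟨δ, hδ, hδd⟩ := hin (y := d) ⟨hd, (htF h01).2.1.symm, (htF h01).2.2.symm⟩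
  have hτ : ∀ i j : Fin m, i ≠ j → 2 ≤ i.val → 2 ≤ j.val → ∃ σ ∈ Swp m, ψ σ = t i j := by
    intro i j hij hi hj
    have hd' : _root_.Disjoint (swap i j).support (swap p0 p1).support := by
      simp [support_swap hij, support_swap h01, Fin.ext_iff, p0, p1]; omega
    refine hin ⟨(htF hij).1, fun e => ?_, ((commute_of_disjoint hd').symm).map φ⟩
    have := hφ e
    rw [this, disjoint_self, Finset.bot_eq_empty, support_swap h01] at hd'
    simp at hd'
  have huv : u ≠ v := by simp [u, v, Fin.ext_iff]; omega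
  have hvw : v ≠ w := by simp [v, w, Fin.ext_iff]; omega
  obtain ⟨σ₁, hσ₁, hσ₁t⟩ := hτ u v huv (by simp [u]; omega) (by simp [v]; omega)
  obtain ⟨σ₂, hσ₂, hσ₂t⟩ := hτ v w hvw (by simp [v]; omega) (by simp [w]; omega)
  have h12 : ¬ Commute σ₁ σ₂ := fun h => by
    have h' := h.map ψ
    rw [hσ₁t, hσ₂t, commute_map_iff hφ] at h'
    exact not_commute_swap huv hvw (by simp [u, w, Fin.ext_iff]; omega) h'
  obtain ⟨p, q, z, hpq, hqz, hpz, rfl, rfl⟩ := exists_shared_of_not_commute hσ₁ hσ₂ h12
  obtain ⟨a, b, hab, rfl⟩ := hδ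
  -- nothing in the path meets the preimage of `d`
  have hdis : ∀ {σ}, σ ∈ Swp m → (∃ i j, i ≠ j ∧ ψ σ = t i j) → a ∉ σ.support ∧ b ∉ σ.support := by
    rintro σ hσ ⟨i, j, hij, hσt⟩
    have hc : Commute σ (swap a b) := (commute_map_iff hψ).1 (by rw [hσt, hδd]; exact (htF hij).2.2.symm)
    rcases (commute_iff hσ (swap_mem_swp hab)).1 hc with h | h
    · exact absurd (by rw [← hσt, h, hδd]) (htF hij).2.1
    · rw [support_swap hab] at h
      simp only [Finset.disjoint_insert_right, Finset.disjoint_singleton_right] at h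
      exact h
  have ha1 := (hdis (swap_mem_swp hpq) ⟨u, v, huv, hσ₁t⟩).1
  have ha2 := (hdis (swap_mem_swp hqz) ⟨v, w, hvw, hσ₂t⟩).1
  have hb2 := (hdis (swap_mem_swp hqz) ⟨v, w, hvw, hσ₂t⟩).2
  simp only [support_swap hpq, support_swap hqz, Finset.mem_insert, Finset.mem_singleton, not_or] at ha1 ha2 hb2
  have hza : z ≠ a := Ne.symm ha2.2
  set e := ψ (swap z a) with he
  have heF : e ∈ perp F x := hψF ▸ ⟨_, swap_mem_swp hza, rfl⟩
  have hde : ¬ Commute d e := by
    rw [← hδd, he, commute_map_iff hψ, swap_comm a b, swap_comm z a]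
    exact not_commute_swap hab.symm (Ne.symm hza) (fun h => hb2.2 h)
  have hlast : ¬ Commute e (t v w) := by
    rw [← hσ₂t, he, commute_map_iff hψ, swap_comm q z, swap_comm z a]
    exact not_commute_swap (Ne.symm hza) hqz.symm ha2.1
  have hmid : ∀ i j : Fin m, i.val + 1 = j.val → 2 ≤ i.val → j.val + 1 < m → Commute e (t i j) := by
    intro i j hij hi hj
    have hne : i ≠ j := by simp [Fin.ext_iff]; omega
    by_cases hju : i.val + 3 = m
    · have h1 : i = u := Fin.ext (by simp [u]; omega)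
      have h2 : j = v := Fin.ext (by simp [v]; omega)
      rw [h1, h2, ← hσ₁t]
      refine (commute_of_disjoint ?_).map ψ
      simp [support_swap hza, support_swap hpq, hqz, Ne.symm hqz, Ne.symm hpz, ha1.1, ha1.2, Ne.symm ha1.1, Ne.symm ha1.2, hpz]
    obtain ⟨σ, hσ, hσt⟩ := hτ i j hne hi (by omega)
    obtain ⟨ha', -⟩ := hdis hσ ⟨i, j, hne, hσt⟩
    have hc2 : Commute σ (swap q z) := (commute_map_iff hψ).1 (by
      rw [hσt, hσ₂t]
      refine (commute_of_disjoint ?_).map φ
      simp [support_swap hne, support_swap hvw, Fin.ext_iff, v, w]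
      omega)
    have hz' : z ∉ σ.support := by
      rcases (commute_iff hσ (swap_mem_swp hqz)).1 hc2 with h | h
      · exfalso
        have h' : swap i j = swap v w := hφ (by show t i j = t v w; rw [← hσt, ← hσ₂t, h])
        have := congrArg (fun σ : Perm (Fin m) => σ i) h'
        simp only [swap_apply_left] at this
        rw [swap_apply_of_ne_of_ne (by simp [Fin.ext_iff, v]; omega) (by simp [Fin.ext_iff, w]; omega)] at this
        exact hne this.symm
      · rw [support_swap hqz] at h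
        simp only [Finset.disjoint_insert_right, Finset.disjoint_singleton_right] at h
        exact h.2
    rw [← hσt]
    refine (commute_of_disjoint ?_).map ψ
    rw [support_swap hza]
    simp [Finset.disjoint_insert_left, hz', ha']
  -- commuting transpositions of the neighbourhood
  let P : Fin m → Fin m → Prop := fun i j => Commute e (t i j)
  have hsymm : ∀ {i j}, P i j → P j i := fun {i j} h => by show Commute e (t j i); simp only [t, swap_comm j i]; exact h
  have hconjP : ∀ {i j k l : Fin m}, P i j → P k l → P (swap k l i) (swap k l j) := by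
    intro i j k l h1 h2
    show Commute e (φ (swap (swap k l i) (swap k l j)))
    rw [swap_apply_apply, map_mul, map_mul, map_inv]
    exact (h2.mul_right h1).mul_right h2.inv_right
  have hP01 : P p0 p1 := heF.2.2.symm
  have hmid' : ∀ k : ℕ, ∀ i j : Fin m, i.val + k + 1 = j.val → 2 ≤ i.val → j.val + 1 < m → P i j := by
    intro k
    induction k with
    | zero => intro i j h1 h2 h3; exact hmid i j (by omega) h2 h3
    | succ k ih =>
      intro i j h1 h2 h3
      let l : Fin m := ⟨j.val - 1, by omega⟩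
      have := hconjP (ih i l (by simp [l]; omega) h2 (by simp [l]; omega)) (hmid l j (by simp [l]; omega) (by simp [l]; omega) h3)
      rwa [swap_apply_of_ne_of_ne (by simp [l, Fin.ext_iff]; omega) (by simp [Fin.ext_iff]; omega),
        swap_apply_left] at this
  have hM : ∀ i j : Fin m, i ≠ j → 2 ≤ i.val → 2 ≤ j.val → i.val + 1 < m → j.val + 1 < m → P i j := by
    intro i j hne hi hj hi' hj'
    rcases Nat.lt_or_gt_of_ne (Fin.val_ne_of_ne hne) with h | h
    · exact hmid' (j.val - i.val - 1) i j (by omega) hi hj'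
    · exact hsymm (hmid' (i.val - j.val - 1) j i (by omega) hj hi')
  have hkey : P p1 p2 := by
    by_contra h12'
    have hA : ∀ i j : Fin m, i.val < 2 → 2 ≤ j.val → j.val + 1 < m → ¬ P i j := by
      intro i j hi hj hj' h
      apply h12'
      have h2 : P i p2 := by
        by_cases hj2 : j = p2
        · exact hj2 ▸ h
        · have := hconjP h (hM j p2 hj2 hj (by simp [p2]) hj' (by simp [p2]; omega))
          rwa [swap_apply_of_ne_of_ne (by simp [Fin.ext_iff]; omega) (by simp [p2, Fin.ext_iff]; omega),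
            swap_apply_left] at this
      rcases Nat.eq_zero_or_pos i.val with h0 | h0
      · have hi0 : i = p0 := Fin.ext h0
        rw [hi0] at h2
        have := hconjP h2 hP01
        rwa [swap_apply_left, swap_apply_of_ne_of_ne (by simp [p0, p2, Fin.ext_iff])
          (by simp [p1, p2, Fin.ext_iff])] at this
      · have hi1 : i = p1 := Fin.ext (by simp [p1]; omega)
        exact hi1 ▸ h2
    have hB : ∀ j : Fin m, 2 ≤ j.val → j.val + 1 < m → ¬ P j w := by
      intro j hj hj' h
      apply hlast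
      by_cases hjv : j = v
      · exact hjv ▸ h
      · have := hconjP h (hM j v hjv hj (by simp [v]; omega) hj' (by simp [v]; omega))
        rwa [swap_apply_left, swap_apply_of_ne_of_ne (by simp [w, Fin.ext_iff]; omega)
          (by simp [v, w, Fin.ext_iff]; omega)] at this
    -- the blocks
    let M : Finset (Fin m) := Finset.univ.filter fun i => 2 ≤ i.val ∧ i.val + 1 < m
    have hblock : ∀ σ ∈ Swp m, Commute e (φ σ) → σ ∈ Avoid M ∨ σ ∈ Avoid Mᶜ := by
      rintro _ ⟨i, j, hij, rfl⟩ h
      by_cases hi : i ∈ M <;> by_cases hj : j ∈ M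
      · exact Or.inr ⟨swap_mem_swp hij, by simp [support_swap hij, hi, hj]⟩
      · exfalso
        simp only [M, Finset.mem_filter, Finset.mem_univ, true_and] at hi hj
        by_cases hj2 : j.val < 2
        · exact hA j i hj2 hi.1 hi.2 (hsymm h)
        · have hjw : j = w := Fin.ext (by simp [w]; omega)
          exact hB i hi.1 hi.2 (hjw ▸ h)
      · exfalso
        simp only [M, Finset.mem_filter, Finset.mem_univ, true_and] at hi hj
        by_cases hi2 : i.val < 2
        · exact hA i j hi2 hj.1 hj.2 h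
        · have hiw : i = w := Fin.ext (by simp [w]; omega)
          exact hB j hj.1 hj.2 (hsymm (hiw ▸ h))
      · exact Or.inl ⟨swap_mem_swp hij, by simp [support_swap hij, hi, hj]⟩
    have h23 : p2 ≠ p3 := by simp [p2, p3, Fin.ext_iff]
    set y := t p2 p3 with hy
    have hyP : P p2 p3 := hM p2 p3 h23 (by simp [p2]) (by simp [p3]) (by simp [p2]; omega) (by simp [p3]; omega)
    have hne_e : ∀ σ, σ ∈ Swp m → φ σ ≠ e := by
      rintro σ hσ h
      have : φ σ ∈ perp F d := hdF ▸ ⟨σ, hσ, rfl⟩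
      exact hde (h ▸ this.2.2)
    have hCeq : perp F d ∩ perp F e = φ '' {σ | σ ∈ Swp m ∧ Commute e (φ σ)} := by
      ext g
      constructor
      · rintro ⟨hg, hg'⟩
        rw [hdF] at hg
        obtain ⟨σ, hσ, rfl⟩ := hg
        exact ⟨σ, ⟨hσ, hg'.2.2⟩, rfl⟩
      · rintro ⟨σ, ⟨hσ, hc⟩, rfl⟩
        have hg : φ σ ∈ perp F d := hdF ▸ ⟨σ, hσ, rfl⟩
        exact ⟨hg, hg.1, hne_e σ hσ, hc⟩
    -- inside the neighbourhood of the transposition (2 3)
    have hyd : d ∈ perp F y := ⟨hd, (htF h23).2.1.symm, (htF h23).2.2.symm⟩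
    have hye : e ∈ perp F y := ⟨heF.1, (hne_e _ (swap_mem_swp h23)).symm, hyP.symm⟩
    have hcount := (hperp y (htF h23).1).ncard_common hyd hye hde
    have hS : perp (perp F y) d ∩ perp (perp F y) e =
        φ '' {σ | σ ∈ Avoid (swap p2 p3).support ∧ Commute e (φ σ)} := by
      ext g
      constructor
      · rintro ⟨⟨hgy, hgd, hdg⟩, -, -, heg⟩
        have hg : g ∈ perp F d := ⟨hgy.1, hgd, hdg⟩
        rw [hdF] at hg
        obtain ⟨σ, hσ, rfl⟩ := hg
        refine ⟨σ, ⟨?_, heg⟩, rfl⟩
        rw [← perp_swp (swap_mem_swp h23)]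
        exact ⟨hσ, fun h => hgy.2.1 (congrArg φ h), (commute_map_iff hφ).1 hgy.2.2⟩
      · rintro ⟨σ, ⟨hσ', hc⟩, rfl⟩
        rw [← perp_swp (swap_mem_swp h23)] at hσ'
        have hg : φ σ ∈ perp F d := hdF ▸ ⟨σ, hσ'.1, rfl⟩
        have hgy : φ σ ∈ perp F y := ⟨hg.1, fun h => hσ'.2.1 (hφ h), hσ'.2.2.map φ⟩
        exact ⟨⟨hgy, hg.2.1, hg.2.2⟩, hgy, hne_e σ hσ'.1, hc⟩
    rw [hS, Set.ncard_image_of_injective _ hφ] at hcount
    set S := {σ | σ ∈ Avoid (swap p2 p3).support ∧ Commute e (φ σ)} with hSdef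
    have hMcard : M.card = m - 3 := by
      have : M = Finset.Icc p2 v := by
        ext i
        simp [M, p2, v, Fin.le_def]
        omega
      rw [this, Fin.card_Icc]
      simp [p2, v]
      omega
    have h2M : p2 ∈ M ∧ p3 ∈ M := by simp [M, p2, p3]; omega
    have hSsub : S ⊆ Avoid M ∪ Avoid (Mᶜ ∪ {p2, p3}) := by
      rintro σ ⟨hσ, hc⟩
      rw [support_swap h23] at hσ
      rcases hblock σ hσ.1 hc with h | h
      · exact Or.inl h
      · exact Or.inr ⟨hσ.1, Finset.disjoint_union_right.2 ⟨h.2, hσ.2⟩⟩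
    have hSle : S.ncard ≤ 3 + (m - 5).choose 2 := by
      refine (Set.ncard_le_ncard hSsub (Set.toFinite _)).trans ((Set.ncard_union_le _ _).trans ?_)
      rw [ncard_avoid, ncard_avoid, Finset.card_union_of_disjoint, Finset.card_compl, hMcard, Finset.card_pair h23,
        Fintype.card_fin, show m - (m - 3) = 3 by omega, show m - (3 + 2) = m - 5 by omega]
      · rfl
      · simp [h2M.1, h2M.2]
    rcases hm with hm' | hm'
    · -- five points
      subst hm'
      apply htwo rfl d hd e heF.1 hde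
      have hmem : swap p0 p1 ∈ S :=
        ⟨⟨swap_mem_swp h01, by simp [support_swap h01, support_swap h23, p0, p1, p2, p3, Fin.ext_iff]⟩, hP01⟩
      have hS1 : S = {swap p0 p1} :=
        (Set.eq_of_subset_of_ncard_le (Set.singleton_subset_iff.2 hmem)
          (by rw [Set.ncard_singleton, hcount]; decide) (Set.toFinite _)).symm
      have hTeq : {σ | σ ∈ Swp 5 ∧ Commute e (φ σ)} = {swap p0 p1, swap p2 p3} := by
        refine Set.Subset.antisymm ?_ ?_
        · rintro σ ⟨hσ, hc⟩
          rcases hblock σ hσ hc with h | h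
          · refine Or.inl ?_
            have : σ ∈ S := by
              refine ⟨⟨hσ, h.2.mono_right ?_⟩, hc⟩
              simp [support_swap h23, Finset.insert_subset_iff, h2M.1, h2M.2]
            rw [hS1] at this
            exact this
          · refine Or.inr (Set.mem_singleton_iff.2 (support_injOn hσ (swap_mem_swp h23) ?_))
            show σ.support = (swap p2 p3).support
            refine Finset.eq_of_subset_of_card_le (fun i hi => ?_)
              (by rw [card_support_pair hσ, support_swap h23, Finset.card_pair h23])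
            have hiM : i ∈ M := by
              by_contra hiM
              exact Finset.disjoint_left.1 h.2 hi (Finset.mem_compl.2 hiM)
            simp [M] at hiM
            simp [support_swap h23, p2, p3, Fin.ext_iff]
            omega
        · rintro σ (rfl | rfl)
          · exact ⟨swap_mem_swp h01, hP01⟩
          · exact ⟨swap_mem_swp h23, hyP⟩
      rw [hCeq, Set.ncard_image_of_injective _ hφ, hTeq, Set.ncard_pair]
      intro h
      have := congrArg (fun σ : Perm (Fin 5) => σ p0) h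
      simp [swap_apply_def, p0, p1, p2, p3, Fin.ext_iff] at this
    · obtain ⟨k, rfl⟩ : ∃ k, m = k + 5 := ⟨m - 5, by omega⟩
      rw [show k + 5 - 3 = k + 2 by omega] at hcount
      have hch : (k + 2).choose 2 = (k + 1) + (k + k.choose 2) := by
        rw [Nat.choose_succ_succ', Nat.choose_one_right, Nat.choose_succ_succ', Nat.choose_one_right]
      rw [hcount, hch, show k + 5 - 5 = k by omega] at hSle
      omega
  refine ⟨e, heF.1, hde, fun i j hij => ?_⟩
  have hne : i ≠ j := by simp [Fin.ext_iff]; omega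
  constructor
  · intro h
    by_contra hcon
    have h1 : i = v := Fin.ext (by simp [v]; omega)
    have h2 : j = w := Fin.ext (by simp [w]; omega)
    exact hlast (h1 ▸ h2 ▸ h)
  · intro hj
    rcases Nat.lt_or_ge i.val 2 with h | h
    · rcases Nat.eq_zero_or_pos i.val with h0 | h0
      · have h1 : i = p0 := Fin.ext h0
        have h2 : j = p1 := Fin.ext (by simp [p1]; omega)
        exact h1 ▸ h2 ▸ hP01
      · have h1 : i = p1 := Fin.ext (by simp [p1]; omega)
        have h2 : j = p2 := Fin.ext (by simp [p2]; omega)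
        exact h1 ▸ h2 ▸ hkey
    · exact hmid i j hij h hj

/-- The connected part of a member is the set of transpositions on two more points. -/
theorem exists_component {d : G} (hd : d ∈ F) :
    ∃ I ⊆ F, SymSet I (m + 2) ∧ d ∈ I ∧ ∀ a ∈ I, perp F a ⊆ I := by
  obtain ⟨φ, hφ, hdF⟩ := hperp d hd
  obtain ⟨e, he, hde, hcomm⟩ := exists_endpoint hE hconj hperp hm htwo hd hφ hdF
  have htF : ∀ {i j : Fin m}, i ≠ j → φ (swap i j) ∈ perp F d := fun h => hdF ▸ ⟨_, swap_mem_swp h, rfl⟩
  have hm5 : 5 ≤ m := by omega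
  let s : Fin (m + 1) → G := fun k =>
    if h : k.val + 1 < m then φ (swap ⟨k.val, by omega⟩ ⟨k.val + 1, h⟩) else if k.val + 1 = m then e else d
  have hsF : ∀ k, s k ∈ F := by
    intro k
    simp only [s]
    split_ifs with h1 h2
    · exact (htF (by simp [Fin.ext_iff])).1
    · exact he
    · exact hd
  have hnadj : ∀ i j : Fin (m + 1), i.val + 1 = j.val → ¬ Commute (s i) (s j) := by
    intro i j hij
    have := j.isLt
    simp only [s]
    split_ifs with h1 h2 h3 h4 h5 <;> try omega
    · rw [commute_map_iff hφ]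
      rw [show (⟨j.val, by omega⟩ : Fin m) = ⟨i.val + 1, h1⟩ from Fin.ext hij.symm]
      exact not_commute_swap (by simp [Fin.ext_iff]) (by simp [Fin.ext_iff]; omega) (by simp [Fin.ext_iff]; omega)
    · intro h
      have := (hcomm ⟨i.val, by omega⟩ ⟨i.val + 1, h1⟩ rfl).1 h.symm
      simp only at this
      omega
    · exact fun h => hde h.symm
  have hfar : ∀ i j : Fin (m + 1), i.val + 1 < j.val → Commute (s i) (s j) := by
    intro i j hij
    have := j.isLt
    simp only [s]
    split_ifs with h1 h2 h3 h4 h5 <;> try omega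
    · refine (commute_of_disjoint ?_).map φ
      rw [support_swap (by simp [Fin.ext_iff]), support_swap (by simp [Fin.ext_iff])]
      simp [Fin.ext_iff]
      omega
    · exact ((hcomm ⟨i.val, by omega⟩ ⟨i.val + 1, h1⟩ rfl).2 (by simp only; omega)).symm
    · exact (htF (by simp [Fin.ext_iff])).2.2.symm
  obtain ⟨ψ, hψ, hψs, hψF⟩ := exists_hom_of_path hE hconj (show 4 ≤ m + 1 by omega) s hsF hnadj hfar
  refine ⟨ψ '' Swp (m + 2), hψF, ⟨ψ, hψ, rfl⟩, ?_, ?_⟩
  · refine ⟨_, swap_mem_swp (i := (⟨m, by omega⟩ : Fin (m + 1)).castSucc) (j := (⟨m, by omega⟩ : Fin (m + 1)).succ)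
      (by simp [Fin.ext_iff]), ?_⟩
    rw [hψs]
    simp [s]
  · intro a ha
    have h1 : perp (ψ '' Swp (m + 2)) a ⊆ perp F a := fun g hg => ⟨hψF hg.1, hg.2⟩
    have h2 : (perp (ψ '' Swp (m + 2)) a).ncard = m.choose 2 := by
      rw [SymSet.ncard_perp ⟨ψ, hψ, rfl⟩ ha]
      rfl
    have h3 : (perp F a).ncard = m.choose 2 := (hperp a (hψF ha)).ncard
    have hfin : (perp F a).Finite := Set.finite_of_ncard_pos (by rw [h3]; exact Nat.choose_pos (by omega))
    rw [← Set.eq_of_subset_of_ncard_le h1 (by omega) hfin]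
    exact fun g hg => hg.1

/-- The whole set. -/
theorem symSet_succ (hne : F.Nonempty)
    (hcon : ∀ a ∈ F, ∀ b ∈ F, ¬ Commute a b → (perp F a ∩ perp F b).Nonempty) : SymSet F (m + 2) := by
  obtain ⟨d, hd⟩ := hne
  obtain ⟨I, hIF, hI, hdI, hclosed⟩ := exists_component hE hconj hperp hm htwo hd
  suffices h : I = F by rw [← h]; exact hI
  refine Set.Subset.antisymm hIF fun b hb => ?_
  by_cases hbd : b = d
  · exact hbd ▸ hdI
  by_cases hc : Commute d b
  · exact hclosed d hdI ⟨hb, hbd, hc⟩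
  · obtain ⟨c, hcd, hcb⟩ := hcon d hd b hb hc
    exact hclosed c (hclosed d hdI hcd) ⟨hb, hcb.2.1.symm, hcb.2.2.symm⟩

end Step

end Cfsg.Lib.OrderFive
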