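import Cfsg.Agent.ThreeTransposition.OrderFive.Lift

/-!
The members commuting with an element of order five, one level up.
-/

set_option autoImplicit false
set_option linter.unusedSectionVars false

namespace Cfsg.Lib.OrderFive

open Cfsg Equiv Subgroup Cfsg.Lib.ThreeTr Cfsg.Lib.ElevenNorm

universe u

variable {G : Type u} [Group G] [Finite G] {D : Set G} {N k l l' mm m' m'' n : ℕ}

theorem image_fixedSet {H : Type*} [Group H] (e : G ≃* H) (S : Set G) (x : G) :
    e '' fixedSet S x = fixedSet (e '' S) (e x) := by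
  ext y
  constructor
  · rintro ⟨z, ⟨hz, hc⟩, rfl⟩
    exact ⟨⟨z, hz, rfl⟩, hc.map e⟩
  · rintro ⟨⟨z, hz, rfl⟩, hc⟩
    exact ⟨z, ⟨hz, by simpa using hc.map e.symm⟩, rfl⟩

theorem SymSet.image {H : Type*} [Group H] (e : G ≃* H) {F : Set G} {m : ℕ} (h : SymSet F m) : SymSet (e '' F) m := by
  obtain ⟨φ, hφ, rfl⟩ := h
  exact ⟨e.toMonoidHom.comp φ, e.injective.comp hφ, by rw [MonoidHom.coe_comp, Set.image_comp]; rfl⟩

variable (h : Over D N k l l' mm m' m'' n) (hn : 5 ≤ n)
include h hn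

theorem Over.at_any {p : G} (hp : p ∈ D) {x : G} (hxp : Commute x p) (hx : orderOf x = 5) :
    SymSet (perp (fixedSet D x) p) n ∧
      Nat.card ↥(centralizer ({p} : Set G) ⊓ centralizer ({x} : Set G)) = 2 * (5 * n.factorial) ∧
      Nat.card ↥(centralizer ({p} : Set G) ⊓ normalizer ((zpowers x : Subgroup G) : Set G)) =
        2 * (20 * n.factorial) ∧
      ∀ y : G, orderOf y = 5 → Commute y p → ∃ g : G, g * x * g⁻¹ = y := by
  obtain ⟨d, hd, hQ⟩ := h.lower
  obtain ⟨g, rfl⟩ := ThreeTr.exists_conj h.cls hd hp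
  set α : G ≃* G := MulAut.conj g with hα
  obtain ⟨x, rfl⟩ := α.surjective x
  rw [MulEquiv.orderOf_eq] at hx
  have hxd : Commute x d := (conj_commute_iff g x d).1 hxp
  obtain ⟨hsym, hC, hN, hconj⟩ := h.at_dist hn hd hQ hxd hx
  have hD : α '' D = D := by
    refine Set.Subset.antisymm (Set.image_subset_iff.2 fun y hy => conj_mem h.cls g hy) fun y hy =>
      ⟨α.symm y, ?_, α.apply_symm_apply y⟩
    simpa [hα] using conj_mem h.cls g⁻¹ hy
  refine ⟨?_, ?_, ?_, fun y hy hyp => ?_⟩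
  · have hperp : ∀ S : Set G, perp (α '' S) (α d) = α '' perp S d := fun S =>
      perp_image (φ := α.toMonoidHom) α.injective S d
    have := hsym.image α
    rw [← hperp, image_fixedSet, hD] at this
    exact this
  · rw [← hC, ← card_map_of_injective (K := centralizer ({d} : Set G) ⊓ centralizer ({x} : Set G))
      (f := α.toMonoidHom) α.injective, map_inf _ _ _ α.injective, map_centralizer_singleton,
      map_centralizer_singleton]
    rfl
  · rw [← hN, ← card_map_of_injective (K := centralizer ({d} : Set G) ⊓ normalizer ((zpowers x : Subgroup G) : Set G))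
      (f := α.toMonoidHom) α.injective, map_inf _ _ _ α.injective, map_centralizer_singleton,
      map_normalizer_zpowers]
    rfl
  · obtain ⟨y, rfl⟩ := α.surjective y
    rw [MulEquiv.orderOf_eq] at hy
    obtain ⟨c, hc⟩ := hconj y hy ((conj_commute_iff g y d).1 hyp)
    exact ⟨α c, by rw [← map_inv, ← map_mul, ← map_mul, hc]⟩

theorem Over.exists_fixed (hN : N % 5 ≠ 0) {x : G} (hx : orderOf x = 5) : (fixedSet D x).Nonempty :=
  Set.nonempty_of_ncard_ne_zero fun e => hN (by
    rw [← h.solid.full.card, ← ncard_fixedSet_mod D (fun y hy => conj_mem h.cls x hy) hx, e])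

theorem Over.conj_five (hN : N % 5 ≠ 0) {x y : G} (hx : orderOf x = 5) (hy : orderOf y = 5) :
    ∃ g : G, g * x * g⁻¹ = y := by
  obtain ⟨d, hd, hxd⟩ := h.exists_fixed hn hN hx
  obtain ⟨e, he, hye⟩ := h.exists_fixed hn hN hy
  obtain ⟨c, hc⟩ := ThreeTr.exists_conj h.cls hd he
  obtain ⟨-, -, -, hconj⟩ := h.at_any hn he (x := c * x * c⁻¹) (hc ▸ (conj_commute_iff c x d).2 hxd)
    (by rw [show c * x * c⁻¹ = MulAut.conj c x from rfl, MulEquiv.orderOf_eq, hx])
  obtain ⟨g, hg⟩ := hconj y hy hye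
  exact ⟨g * c, by rw [← hg]; group⟩

/-- The split normalisers one level up, once the fixed members form one connected part. -/
theorem Over.fiveSplit (hN : N % 5 ≠ 0) (hm : n = 5 ∨ 7 ≤ n)
    (htwo : n = 5 → ∀ x : G, orderOf x = 5 → ∀ a ∈ fixedSet D x, ∀ b ∈ fixedSet D x, ¬ Commute a b →
      (perp (fixedSet D x) a ∩ perp (fixedSet D x) b).ncard ≠ 2)
    (hcon : ∀ x : G, orderOf x = 5 → ∀ a ∈ fixedSet D x, ∀ b ∈ fixedSet D x, ¬ Commute a b →
      (perp (fixedSet D x) a ∩ perp (fixedSet D x) b).Nonempty) :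
    FiveSplit D (n + 2) := by
  refine ⟨fun X Y hX hY => ?_, fun x hx => ?_⟩
  · obtain ⟨x, hx, rfl⟩ := exists_gen_prime (by norm_num) hX
    obtain ⟨y, hy, rfl⟩ := exists_gen_prime (by norm_num) hY
    obtain ⟨g, hg⟩ := h.conj_five hn hN hx hy
    exact ⟨g, by rw [MonoidHom.map_zpowers]; congr 1⟩
  have hsub : fixedSet D x ⊆ D := fun y hy => hy.1
  have hE : IsThreeTranspositionSet (fixedSet D x) :=
    ⟨fun y hy => h.cls.1.1 y (hsub hy), fun y hy z hz => h.cls.1.2 y (hsub hy) z (hsub hz)⟩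
  have hsym : SymSet (fixedSet D x) (n + 2) :=
    symSet_succ hE (conj_mem_fixedSet h.conj_D) (fun a ha => (h.at_any hn ha.1 ha.2 hx).1) hm
      (fun e => htwo e x hx) (h.exists_fixed hn hN hx) (hcon x hx)
  obtain ⟨d, hd⟩ := h.exists_fixed hn hN hx
  obtain ⟨-, hC, hNN, -⟩ := h.at_any hn hd.1 hd.2 hx
  have hch : (n + 2).choose 2 * 2 = (n + 2) * (n + 1) := by
    rw [Nat.choose_two_right, show n + 2 - 1 = n + 1 from rfl]
    exact Nat.div_mul_cancel (mul_comm (n + 1) (n + 2) ▸ (Nat.even_mul_succ_self (n + 1)).two_dvd)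
  have hfac : ∀ c : ℕ, 2 * (c * n.factorial) * (n + 2).choose 2 = c * (n + 2).factorial := fun c => by
    rw [Nat.factorial_succ, Nat.factorial_succ]
    calc 2 * (c * n.factorial) * (n + 2).choose 2 = c * n.factorial * ((n + 2).choose 2 * 2) := by ring
      _ = _ := by rw [hch]; ring
  refine ⟨hsym, ?_⟩
  exact normalizer_split h.conj_D (show 5 ≤ n + 2 by omega) hx hsym hd (by rw [hC, hfac]) (by rw [hNN, hfac])

end Cfsg.Lib.OrderFive
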