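import Cfsg.Agent.ThreeTransposition.OrderFive.Normalizer

/-!
Five-cycles among fewer than ten points, and the transpositions of four points.
-/

set_option autoImplicit false
set_option linter.unusedSectionVars false

namespace Cfsg.Lib.OrderFive

open Cfsg Equiv Equiv.Perm Cfsg.Lib.ThreeTr

variable {m : ℕ} {σ : Perm (Fin m)}

theorem five_cycle (hm : m < 10) (hσ : orderOf σ = 5) :
    σ.cycleType = {5} ∧ σ.support.card = 5 ∧ σ.IsCycle ∧ 5 ≤ m := by
  obtain ⟨n, hn⟩ := cycleType_prime_order (σ := σ) (by rw [hσ]; norm_num)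
  have hle := σ.support.card_le_univ
  have hsum := sum_cycleType σ
  rw [hn, hσ, Multiset.sum_replicate, smul_eq_mul] at hsum
  rw [Fintype.card_fin] at hle
  have h0 : n = 0 := by omega
  subst h0
  rw [hσ] at hn
  refine ⟨by rw [hn]; rfl, by omega, ?_, by omega⟩
  rw [← card_cycleType_eq_one, hn]
  rfl

theorem card_centralizer_five (hm : m < 10) (hσ : orderOf σ = 5) :
    Nat.card (Subgroup.centralizer ({σ} : Set (Perm (Fin m)))) = 5 * (m - 5).factorial := by
  obtain ⟨hct, -⟩ := five_cycle hm hσ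
  rw [nat_card_centralizer, hct, Fintype.card_fin]
  simp [mul_comm]

theorem card_normalizer_five (hm : m < 10) (hσ : orderOf σ = 5) :
    Nat.card (Subgroup.normalizer ((Subgroup.zpowers σ : Subgroup (Perm (Fin m))) : Set (Perm (Fin m)))) =
      20 * (m - 5).factorial := by
  classical
  set F : Set (Perm (Fin m)) := {τ | τ ∈ Subgroup.zpowers σ ∧ τ ≠ 1} with hF
  set K := Subgroup.normalizer ((Subgroup.zpowers σ : Subgroup (Perm (Fin m))) : Set (Perm (Fin m))) with hK
  have hne : σ ≠ 1 := fun h => by simp [h] at hσ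
  have hgen : ∀ τ ∈ F, Subgroup.zpowers τ = Subgroup.zpowers σ ∧ orderOf τ = 5 := by
    rintro τ ⟨hτ, hτ1⟩
    have ho : orderOf τ = 5 := by
      have h := Subgroup.orderOf_dvd_natCard _ hτ
      rw [Nat.card_zpowers, hσ] at h
      exact ((Nat.dvd_prime (by norm_num)).1 h).resolve_left fun h1 => hτ1 (orderOf_eq_one_iff.1 h1)
    exact ⟨Subgroup.eq_of_le_of_card_ge (Subgroup.zpowers_le.2 hτ)
      (by rw [Nat.card_zpowers, Nat.card_zpowers, ho, hσ]), ho⟩
  have hcard : F.ncard = 4 := by
    have : F = ((Subgroup.zpowers σ : Subgroup (Perm (Fin m))) : Set (Perm (Fin m))) \ {1} := by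
      ext τ; simp [hF]
    rw [this, Set.ncard_sdiff_singleton_of_mem (one_mem (Subgroup.zpowers σ)), ← Nat.card_coe_set_eq,
      SetLike.coe_sort_coe, Nat.card_zpowers, hσ]
  rw [card_mul_orbit K σ F ⟨Subgroup.mem_zpowers σ, hne⟩
      (fun g hg τ hτ => ⟨(Subgroup.mem_normalizer_iff.1 hg τ).1 hτ.1,
        fun h => hτ.2 (by simpa [mul_inv_eq_one] using h)⟩) ?_, hcard]
  · have : K ⊓ Subgroup.centralizer ({σ} : Set (Perm (Fin m))) = Subgroup.centralizer ({σ} : Set (Perm (Fin m))) :=
      inf_eq_right.2 (Cfsg.Lib.ElevenNorm.centralizer_le_normalizer_zpowers σ)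
    rw [this, card_centralizer_five hm hσ, ← mul_assoc]
    all_goals norm_num
  · intro τ hτ
    obtain ⟨g, hg⟩ := isConj_iff.1 (isConj_iff_cycleType_eq.2
      ((five_cycle hm hσ).1.trans (five_cycle hm (hgen τ hτ).2).1.symm))
    exact ⟨g, Cfsg.Lib.ElevenNorm.mem_normalizer_zpowers.2 (hg ▸ hτ.1), hg⟩

/-- The transpositions commuting with a five-cycle avoid it. -/
theorem commute_five_iff (hm : m < 10) (hσ : orderOf σ = 5) {τ : Perm (Fin m)} (hτ : τ ∈ Swp m) :
    Commute σ τ ↔ τ ∈ Avoid σ.support := by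
  refine ⟨fun h => ⟨hτ, ?_⟩, fun h => commute_of_disjoint h.2.symm⟩
  rw [Finset.disjoint_left]
  intro a ha ha'
  obtain ⟨-, -, hcyc, -⟩ := five_cycle hm hσ
  have h1 : σ a ≠ a := mem_support.1 ha'
  have hstep : ∀ b ∈ τ.support, σ b ∈ τ.support := by
    intro b hb
    rw [mem_support] at hb ⊢
    intro hb2
    refine hb (σ.injective ?_)
    rw [← Perm.mul_apply, h.eq, Perm.mul_apply]
    exact hb2
  have h2 : σ (σ a) ≠ a := by
    intro h2
    have := (hcyc.pow_eq_one_iff' (n := 2) h1).2 (by rw [pow_two, Perm.mul_apply]; exact h2)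
    have h5 := orderOf_dvd_of_pow_eq_one this
    rw [hσ] at h5
    norm_num at h5
  have h3 : σ (σ a) ≠ σ a := fun e => h1 (σ.injective e)
  have hsub : ({a, σ a, σ (σ a)} : Finset (Fin m)) ⊆ τ.support := by
    intro b hb
    simp only [Finset.mem_insert, Finset.mem_singleton] at hb
    rcases hb with rfl | rfl | rfl
    · exact ha
    · exact hstep _ ha
    · exact hstep _ (hstep _ ha)
  have := Finset.card_le_card hsub
  rw [Finset.card_eq_three.2 ⟨a, σ a, σ (σ a), Ne.symm h1, Ne.symm h2, Ne.symm h3, rfl⟩,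
    card_support_pair hτ] at this
  omega

/-- The symmetric group on the points outside a five-cycle. -/
theorem exists_outside (hm : m < 10) (hσ : orderOf σ = 5) :
    ∃ ψ : Perm (Fin (m - 5)) →* Perm (Fin m), Function.Injective ψ ∧ ψ '' Swp (m - 5) = Avoid σ.support ∧
      (∀ τ, Commute σ (ψ τ)) ∧ Subgroup.zpowers σ ⊓ ψ.range = ⊥ ∧
      Subgroup.zpowers σ ⊔ ψ.range = Subgroup.centralizer ({σ} : Set (Perm (Fin m))) := by
  classical
  obtain ⟨-, h5, -, -⟩ := five_cycle hm hσ
  let e : Fin (m - 5) ≃ {i : Fin m // i ∉ σ.support} := (Fintype.equivFinOfCardEq (by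
    rw [Fintype.card_subtype, Finset.filter_not, Finset.filter_mem_eq_inter, Finset.card_sdiff_of_subset
      Finset.inter_subset_left, Finset.univ_inter, Finset.card_univ, Fintype.card_fin, h5])).symm
  let ψ : Perm (Fin (m - 5)) →* Perm (Fin m) :=
    (ofSubtype (p := fun i => i ∉ σ.support)).comp e.permCongrHom.toMonoidHom
  have hψ : Function.Injective ψ := ofSubtype_injective.comp e.permCongrHom.injective
  have hfix : ∀ τ, ∀ i ∈ σ.support, ψ τ i = i := fun τ i hi =>
    ofSubtype_apply_of_not_mem _ (fun h => h hi)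
  have hswap : ∀ i j : Fin (m - 5), ψ (swap i j) = swap (e i : Fin m) (e j) := by
    intro i j
    ext k : 1
    by_cases hk : k ∈ σ.support
    · rw [hfix _ _ hk, swap_apply_of_ne_of_ne (fun h => (e i).2 (by rw [← h]; exact hk)) (fun h => (e j).2 (by rw [← h]; exact hk))]
    · show ofSubtype (e.permCongr (swap i j)) k = _
      rw [ofSubtype_apply_of_mem (p := fun i => i ∉ σ.support) _ hk, Equiv.permCongr_apply]
      obtain ⟨l, hl⟩ := e.surjective ⟨k, hk⟩
      rw [← hl, e.symm_apply_apply, show k = (e l : Fin m) by rw [hl]]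
      rw [swap_apply_def, swap_apply_def]
      simp only [← Subtype.ext_iff, e.injective.eq_iff]
      split_ifs <;> rfl
  have hcomm : ∀ τ, Commute σ (ψ τ) := fun τ => by
    refine commute_of_disjoint (Finset.disjoint_left.2 fun i hi hi' => ?_)
    exact mem_support.1 hi' (hfix τ i hi)
  have hinf : Subgroup.zpowers σ ⊓ ψ.range = ⊥ := by
    rw [eq_bot_iff]
    rintro _ ⟨hz, τ, rfl⟩
    obtain ⟨j, hj⟩ := Subgroup.mem_zpowers_iff.1 hz
    refine Subgroup.mem_bot.2 (Equiv.ext fun i => ?_)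
    by_cases hi : i ∈ σ.support
    · exact hfix τ i hi
    · rw [← hj, Perm.one_apply]
      exact zpow_apply_eq_self_of_apply_eq_self (notMem_support.1 hi) j
  refine ⟨ψ, hψ, ?_, hcomm, hinf, ?_⟩
  · ext τ
    constructor
    · rintro ⟨_, ⟨i, j, hij, rfl⟩, rfl⟩
      have hne : (e i : Fin m) ≠ e j := fun h => hij (e.injective (Subtype.ext h))
      rw [hswap]
      refine ⟨swap_mem_swp hne, ?_⟩
      rw [support_swap hne]
      simp only [Finset.disjoint_insert_left, Finset.disjoint_singleton_left]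
      exact ⟨(e i).2, (e j).2⟩
    · rintro ⟨⟨a, b, hab, rfl⟩, hd⟩
      simp only [support_swap hab, Finset.disjoint_insert_left, Finset.disjoint_singleton_left] at hd
      refine ⟨swap (e.symm ⟨a, hd.1⟩) (e.symm ⟨b, hd.2⟩), swap_mem_swp ?_, ?_⟩
      · exact fun h => hab (congrArg Subtype.val (e.symm.injective h))
      · rw [hswap, e.apply_symm_apply, e.apply_symm_apply]
  · refine Subgroup.eq_of_le_of_card_ge (sup_le (Subgroup.zpowers_le.2 (Subgroup.mem_centralizer_singleton_iff.2 rfl))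
      (by rintro _ ⟨τ, rfl⟩; exact Subgroup.mem_centralizer_singleton_iff.2 (hcomm τ).symm.eq)) ?_
    have hcm : ∀ (a : Subgroup.zpowers σ) (b : ψ.range),
        Commute ((Subgroup.zpowers σ).subtype a) (ψ.range.subtype b) := by
      rintro ⟨a, ha⟩ ⟨_, τ, rfl⟩
      obtain ⟨j, rfl⟩ := Subgroup.mem_zpowers_iff.1 ha
      exact (hcomm τ).zpow_left j
    have hinj : Function.Injective ((Subgroup.zpowers σ).subtype.noncommCoprod ψ.range.subtype hcm) := by
      rw [MonoidHom.noncommCoprod_injective]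
      refine ⟨Subtype.coe_injective, Subtype.coe_injective, ?_⟩
      rw [Subgroup.range_subtype, Subgroup.range_subtype]
      exact disjoint_iff.2 hinf
    have h := Nat.card_congr (MonoidHom.ofInjective hinj).toEquiv
    rw [MonoidHom.noncommCoprod_range, Subgroup.range_subtype, Subgroup.range_subtype, Nat.card_prod,
      Nat.card_zpowers, hσ, ← Nat.card_congr (MonoidHom.ofInjective hψ).toEquiv, Nat.card_perm, Nat.card_fin] at h
    rw [← h, card_centralizer_five hm hσ]

/-- The six transpositions of four points, listed. -/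
def six : Fin 6 → Perm (Fin 4) := ![swap 0 1, swap 0 2, swap 0 3, swap 1 2, swap 1 3, swap 2 3]

theorem six_mem : ∀ a b : Fin 4, a ≠ b → ∃ i, six i = swap a b := by decide +kernel

theorem four_path : ∀ i j k : Fin 6, six i * six j ≠ six j * six i → six j * six k ≠ six k * six j →
    six i * six k = six k * six i → i ≠ k → ∃ p : Fin 4 → Fin 4, Function.Bijective p ∧
      (∀ x, six i (p x) = p (swap 0 1 x)) ∧ (∀ x, six j (p x) = p (swap 1 2 x)) ∧
      ∀ x, six k (p x) = p (swap 2 3 x) := by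
  decide +kernel

/-- An automorphism of the symmetric group of degree four permuting the transpositions is inner. -/
theorem exists_inner_four (φ : Perm (Fin 4) ≃* Perm (Fin 4)) (hsw : ∀ s, s.IsSwap → (φ s).IsSwap) :
    ∃ π : Perm (Fin 4), ∀ g, φ g = π * g * π⁻¹ := by
  have h : ∀ a b : Fin 4, a ≠ b → ∃ i, six i = φ (swap a b) := fun a b hab => by
    obtain ⟨c, d, hcd, e⟩ := hsw _ ⟨a, b, hab, rfl⟩
    rw [e]
    exact six_mem c d hcd
  obtain ⟨i, hi⟩ := h 0 1 (by decide)
  obtain ⟨j, hj⟩ := h 1 2 (by decide)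
  obtain ⟨k, hk⟩ := h 2 3 (by decide)
  obtain ⟨p, hp, h1, h2, h3⟩ := four_path i j k
    (by rw [hi, hj, ← map_mul, ← map_mul]; exact φ.injective.ne (by decide +kernel))
    (by rw [hj, hk, ← map_mul, ← map_mul]; exact φ.injective.ne (by decide +kernel))
    (by rw [hi, hk, ← map_mul, ← map_mul]; exact congrArg φ (by decide +kernel))
    (fun e => by subst e; exact absurd (φ.injective (hi.symm.trans hk)) (by decide +kernel))
  let π : Perm (Fin 4) := Equiv.ofBijective p hp
  refine ⟨π, ?_⟩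
  have hconj : ∀ {s : Perm (Fin 4)} {l : Fin 6}, six l = φ s → (∀ x, six l (p x) = p (s x)) →
      φ s = π * s * π⁻¹ := by
    intro s l hl hs
    rw [eq_mul_inv_iff_mul_eq, ← hl]
    exact Equiv.ext hs
  suffices hh : φ.toMonoidHom = (MulAut.conj π).toMonoidHom from fun g => DFunLike.congr_fun hh g
  refine MonoidHom.eq_of_eqOn_dense (s := {swap 0 1, swap 1 2, swap 2 3}) ?_ ?_
  · rw [eq_top_iff, ← Equiv.Perm.closure_isSwap, Subgroup.closure_le]
    rintro _ ⟨a, b, hab, rfl⟩
    set H := Subgroup.closure ({swap 0 1, swap 1 2, swap 2 3} : Set (Perm (Fin 4)))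
    have m1 : swap (0 : Fin 4) 1 ∈ H := Subgroup.subset_closure (by simp)
    have m2 : swap (1 : Fin 4) 2 ∈ H := Subgroup.subset_closure (by simp)
    have m3 : swap (2 : Fin 4) 3 ∈ H := Subgroup.subset_closure (by simp)
    obtain ⟨l, hl⟩ := six_mem a b hab
    rw [← hl]
    fin_cases l
    · exact m1
    · show swap (0 : Fin 4) 2 ∈ H
      rw [show swap (0 : Fin 4) 2 = swap 0 1 * swap 1 2 * swap 0 1 by decide +kernel]
      exact mul_mem (mul_mem m1 m2) m1
    · show swap (0 : Fin 4) 3 ∈ H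
      rw [show swap (0 : Fin 4) 3 = swap 0 1 * swap 1 2 * swap 2 3 * swap 1 2 * swap 0 1 by decide +kernel]
      exact mul_mem (mul_mem (mul_mem (mul_mem m1 m2) m3) m2) m1
    · exact m2
    · show swap (1 : Fin 4) 3 ∈ H
      rw [show swap (1 : Fin 4) 3 = swap 1 2 * swap 2 3 * swap 1 2 by decide +kernel]
      exact mul_mem (mul_mem m2 m3) m2
    · exact m3
  · rintro s (rfl | rfl | rfl)
    exacts [hconj hi h1, hconj hj h2, hconj hk h3]

end Cfsg.Lib.OrderFive
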